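import Cfsg.Agent.Lib.PGroup.OrthSeven.Triv

/-!
Propagation of full stars in dimension seven, and the bound for the index.
-/

set_option autoImplicit false
set_option linter.unusedSectionVars false

namespace CfsgLib.PGroup.OrthSeven

open scoped Matrix
open Matrix Cfsg.Geo CfsgLib.Perm.Asch CfsgLib.Perm.Trans CfsgLib.Perm.Trans.Quad CfsgLib.PGroup.OrthIndex

variable {ι : Type} [Fintype ι] [DecidableEq ι] {F : Type*} [Field F] [Fintype F]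
variable {Q : (ι → F) → F}

local notation "pol" => QuadraticMap.polar

variable (hQ : IsNondegenerateQuadraticForm Q)
include hQ
variable {X : Type*} [MulAction ↥(eGroup Q) X] (Φ : Frame Q) {x : X}

/-- A common nonsingular vector carries the stars of the second vector of the pair to the first. -/
theorem flip_star (h2 : (2 : F) ≠ 0) {L₁ L₂ : Submodule F (ι → F)} (hL₁ : L₁ ≤ Φ.W hQ)
    (hL₂ : L₂ ≤ Φ.W hQ) (he : ∀ a ∈ L₁, Star hQ x Φ.e a) (hf : ∀ a ∈ L₂, Star hQ x Φ.f a) {k : ι → F}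
    (hk₁ : k ∈ L₁) (hk₂ : k ∈ L₂) (hQk : Q k ≠ 0) : ∀ a ∈ L₂, Star hQ x Φ.e a := by
  have hkW : k ∈ Φ.W hQ := hL₁ hk₁
  set g := el hQ Φ.f ((Q k)⁻¹ • k) * el hQ Φ.e k with hg
  have hgx : g • x = x := by rw [hg, mul_smul, (he k hk₁).2, (hf _ (L₂.smul_mem _ hk₂)).2]
  have hfk : pol Q Φ.f ((Q k)⁻¹ • k) = 0 := by rw [psmul_right hQ, pcomm Φ.f k, Φ.pol_f hQ hkW, mul_zero]
  have hgf : act g Φ.f = (-Q k) • Φ.e := by
    rw [hg, act_mul, act_el hQ Φ.hQe (Φ.pol_e hQ hkW), act_el hQ Φ.hQf hfk]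
    simp only [psub_left hQ, padd_left hQ, psmul_left hQ, psmul_right hQ, qsmul hQ, Φ.hfe hQ,
      pcomm Φ.f k, Φ.pol_f hQ hkW, pol_self_singular hQ Φ.hQf, Φ.hef, Φ.pol_e hQ hkW, pself hQ k]
    match_scalars <;> field_simp <;> ring
  intro a ha
  set t := pol Q a k / pol Q k k with ht
  have hkk : pol Q k k ≠ 0 := by rw [pself hQ]; exact mul_ne_zero h2 hQk
  set b := a - t • k with hb
  have hbL : b ∈ L₂ := L₂.sub_mem ha (L₂.smul_mem _ hk₂)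
  have hbk : pol Q b k = 0 := by rw [hb, psub_left hQ, psmul_left hQ, ht, div_mul_cancel₀ _ hkk, sub_self]
  have hgb : ∀ s : F, act g (s • b) = s • b := fun s => by
    have h1 : pol Q b Φ.e = 0 := Φ.pol_e' hQ (hL₂ hbL)
    have h3 : pol Q b Φ.f = 0 := Φ.pol_f hQ (hL₂ hbL)
    rw [act_smul, hg, act_mul, act_el hQ Φ.hQe (Φ.pol_e hQ hkW), h1, hbk, act_el hQ Φ.hQf hfk]
    simp only [mul_zero, zero_smul, sub_zero, add_zero, h3, psmul_right hQ, hbk]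
  have h1 := (hf _ (L₂.smul_mem (-Q k)⁻¹ hbL)).map_of_fix hgx Φ.hQf
  rw [hgf, hgb] at h1
  have h3 := Star.of_smul_left Φ.hQe h1 (by rw [psmul_right hQ, Φ.pol_e hQ (hL₂ hbL), mul_zero])
  rw [smul_smul, mul_inv_cancel₀ (neg_ne_zero.2 hQk), one_smul] at h3
  have h4 := h3.add Φ.hQe (he _ (L₁.smul_mem t hk₁))
  rwa [hb, sub_add_cancel] at h4

/-- The stars of the first vector contain three dimensions of `W`. -/
def Wide (Φ : Frame Q) (x : X) : Prop :=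
  ∃ L : Submodule F (ι → F), L ≤ Φ.W hQ ∧ 3 ≤ Module.finrank F L ∧ ∀ a ∈ L, Star hQ x Φ.e a

theorem wide_of (hW5 : Module.finrank F (Φ.W hQ) = 5)
    (h : Full hQ x Φ.e ∨ HypW hQ Φ x ∨ TsW hQ Φ x) : Wide hQ Φ x := by
  rcases h with h | ⟨u, -, -, h⟩ | ⟨L, hL, h3, hs, -⟩
  · exact ⟨Φ.W hQ, le_rfl, by omega, fun a ha => h.star (Φ.pol_e hQ ha)⟩
  · refine ⟨orthIn hQ (Φ.W hQ) u, inf_le_left, ?_, fun a ha => h a ((mem_orthIn hQ).1 ha).1 ((mem_orthIn hQ).1 ha).2⟩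
    have := finrank_orthIn hQ (Φ.W hQ) u
    omega
  · exact ⟨L, hL, h3, hs⟩

/-- The orthogonal in `W` of a nonsingular `u`, full at the pair, is full in the orthogonal of `u`. -/
theorem star_of_common_e {u : ι → F} (hu : u ∈ Φ.W hQ) (hP : Φ.P = ⊤)
    (hfu : ∀ a ∈ Φ.W hQ, pol Q a u = 0 → Star hQ x Φ.f a)
    (heu : ∀ a ∈ Φ.W hQ, pol Q a u = 0 → Star hQ x Φ.e a) {s : ι → F} (hQs : Q s = 0) (hsu : pol Q s u = 0)
    (hse : pol Q s Φ.e ≠ 0) {a : ι → F} (hau : pol Q a u = 0) (hsa : pol Q s a = 0) : Star hQ x s a := by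
  set α := pol Q s Φ.f with hα
  set β := pol Q s Φ.e with hβ
  set w := s - α • Φ.e - β • Φ.f with hw
  have hwW : w ∈ Φ.W hQ := Φ.rest_mem hQ hP s
  have hdec : s = α • Φ.e + β • Φ.f + w := by rw [hw]; abel
  have hwu : pol Q w u = 0 := by
    rw [hw, psub_left hQ, psub_left hQ, psmul_left hQ, psmul_left hQ, hsu, Φ.pol_e hQ hu,
      pcomm Φ.f u, Φ.pol_f hQ hu]
    ring
  have hQw : α * β + Q w = 0 := by
    rw [← hQs]
    conv_rhs => rw [hdec]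
    rw [qadd hQ, qadd hQ, qsmul hQ, qsmul hQ, Φ.hQe, Φ.hQf, psmul_left hQ, psmul_right hQ, Φ.hef,
      padd_left hQ, psmul_left hQ, psmul_left hQ, Φ.pol_e hQ hwW, pcomm Φ.f w, Φ.pol_f hQ hwW]
    ring
  set k := β⁻¹ • w with hk
  have hkW : k ∈ Φ.W hQ := (Φ.W hQ).smul_mem _ hwW
  have hku : pol Q k u = 0 := by rw [hk, psmul_left hQ, hwu, mul_zero]
  set g := el hQ Φ.e k with hg
  have hgx : g • x = x := (heu k hkW hku).2
  have hgf : act g Φ.f = β⁻¹ • s := by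
    rw [hg, act_el hQ Φ.hQe (Φ.pol_e hQ hkW), Φ.hfe hQ, pcomm Φ.f k, Φ.pol_f hQ hkW, hk, qsmul hQ,
      show Q w = -(α * β) by linear_combination hQw, hdec]
    match_scalars <;> field_simp <;> ring
  have hgu : act g u = u := by
    rw [hg, act_el hQ Φ.hQe (Φ.pol_e hQ hkW), Φ.pol_e' hQ hu, pcomm u k, hku]
    module
  set a' := β • act g⁻¹ a with ha'
  have haf : pol Q a' Φ.f = 0 := by
    rw [ha', psmul_left hQ, ← pol_act g, act_act_inv, hgf, psmul_right hQ, pcomm a s, hsa]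
    ring
  have hau' : pol Q a' u = 0 := by
    rw [ha', psmul_left hQ, ← pol_act g, act_act_inv, hgu, hau, mul_zero]
  set y := a' - pol Q a' Φ.f • Φ.e - pol Q a' Φ.e • Φ.f with hy
  have hyW : y ∈ Φ.W hQ := Φ.rest_mem hQ hP a'
  have hyu : pol Q y u = 0 := by
    simp only [hy, psub_left hQ, hau', psmul_left hQ, Φ.pol_e hQ hu, pcomm Φ.f u, Φ.pol_f hQ hu,
      mul_zero, sub_zero]
  have hdec' : a' = pol Q a' Φ.e • Φ.f + y := by rw [hy, haf]; module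
  have h1 := ((Star.self Φ.hQf x (pol Q a' Φ.e)).add Φ.hQf (hfu y hyW hyu)).map_of_fix hgx Φ.hQf
  rw [← hdec', hgf, ha', act_smul, act_act_inv] at h1
  have h3 := Star.of_smul_left hQs h1 (by rw [psmul_right hQ, hsa, mul_zero])
  rwa [smul_smul, inv_mul_cancel₀ hse, one_smul] at h3

/-- Two vectors with the same hyperplane of stars give a full vector. -/
theorem full_of_common (hP : Φ.P = ⊤) (hn : 7 ≤ Fintype.card ι)
    (hw : ∀ Ψ : Frame Q, Ψ.P = ⊤ → Wide hQ Ψ x) {u : ι → F} (hu : u ∈ Φ.W hQ) (hu0 : u ≠ 0)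
    (heu : ∀ a ∈ Φ.W hQ, pol Q a u = 0 → Star hQ x Φ.e a)
    (hfu : ∀ a ∈ Φ.W hQ, pol Q a u = 0 → Star hQ x Φ.f a) : ∃ c, Q c = 0 ∧ c ≠ 0 ∧ Full hQ x c := by
  have hW := Φ.W_finrank hQ
  rw [hP, finrank_top, Module.finrank_fintype_fun_eq_card] at hW
  have hmul : ∀ {c : ι → F}, c ∈ Φ.W hQ → pol Q c u = 0 → ∀ t : F,
      t • c ∈ Φ.W hQ ∧ pol Q (t • c) u = 0 := fun hc hcu t =>
    ⟨(Φ.W hQ).smul_mem t hc, by rw [psmul_left hQ, hcu, mul_zero]⟩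
  have hmid : ∀ c ∈ Φ.W hQ, Q c = 0 → pol Q c u = 0 → ∀ a ∈ Φ.W hQ, pol Q a c = 0 → pol Q a u = 0 →
      Star hQ x c a := fun c hc hQc hcu a ha hac hau =>
    Φ.star_mid hQ hc hQc ha hac (heu a ha hau) (fun t => heu _ (hmul hc hcu t).1 (hmul hc hcu t).2)
      (hfu c hc hcu)
  rcases eq_or_ne (Q u) 0 with hQu | hQu
  · have huu : pol Q u u = 0 := pol_self_singular hQ hQu
    exact ⟨u, hQu, hu0, Φ.full_mid hQ hP hu hQu (fun t => heu _ (hmul hu huu t).1 (hmul hu huu t).2)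
      (fun t => hfu _ (hmul hu huu t).1 (hmul hu huu t).2) fun a ha hau => hmid u hu hQu huu a ha hau hau⟩
  have hall : ∀ s, Q s = 0 → pol Q s u = 0 → ∀ a, pol Q a u = 0 → pol Q s a = 0 → Star hQ x s a := by
    intro s hQs hsu a hau hsa
    by_cases hse : pol Q s Φ.e = 0
    swap
    · exact star_of_common_e hQ Φ hu hP hfu heu hQs hsu hse hau hsa
    by_cases hsf : pol Q s Φ.f = 0
    swap
    · exact star_of_common_e hQ (Φ.symm (Φ.hfe hQ)) ((Φ.mem_W_symm hQ).2 hu) hP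
        (fun b hb => heu b ((Φ.mem_W_symm hQ).1 hb)) (fun b hb => hfu b ((Φ.mem_W_symm hQ).1 hb))
        hQs hsu hsf hau hsa
    have hsW : s ∈ Φ.W hQ := (mem_pairPerp hQ).2 ⟨by rw [hP]; exact Submodule.mem_top, hse, hsf⟩
    have hyW := Φ.rest_mem hQ hP a
    set y := a - pol Q a Φ.f • Φ.e - pol Q a Φ.e • Φ.f with hy
    have hyu : pol Q y u = 0 := by
      rw [hy, psub_left hQ, psub_left hQ, psmul_left hQ, psmul_left hQ, hau, Φ.pol_e hQ hu,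
        pcomm Φ.f u, Φ.pol_f hQ hu]
      ring
    have hys : pol Q y s = 0 := by
      rw [hy, psub_left hQ, psub_left hQ, psmul_left hQ, psmul_left hQ, pcomm a s, hsa, Φ.pol_e hQ hsW,
        pcomm Φ.f s, Φ.pol_f hQ hsW]
      ring
    have hd : a = pol Q a Φ.f • Φ.e + pol Q a Φ.e • Φ.f + y := by rw [hy]; abel
    rw [hd]
    exact (((heu _ (hmul hsW hsu _).1 (hmul hsW hsu _).2).swap_smul hQ Φ.hQe hQs).add hQs
      ((hfu _ (hmul hsW hsu _).1 (hmul hsW hsu _).2).swap_smul hQ Φ.hQf hQs)).add hQs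
      (hmid s hsW hQs hsu y hyW hys hyu)
  obtain ⟨z, hz, hQz, hzu⟩ : ∃ z ∈ Φ.W hQ, Q z = 0 ∧ pol Q z u ≠ 0 := by
    by_contra hcon
    simp only [not_exists, not_and, not_not, ne_eq] at hcon
    obtain ⟨y, hy, hyu⟩ := ((Φ.W_nd hQ) u hu hu0).1
    exact hyu (mem_of_singular hQ (Φ.W_nd hQ) (by omega) (S := {v | pol Q v u = 0})
      (fun p hp r hr => by
        show pol Q (p + r) u = 0
        rw [padd_left hQ, hp, hr, add_zero]) hcon y hy)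
  have hz0 : z ≠ 0 := fun h => hzu (by rw [h, pzero_left hQ])
  obtain ⟨Ψ, hΨP, hΨe⟩ := exists_frame hQ (by omega) hQz hz0
  obtain ⟨L, hL, hL3, hLs⟩ := hw Ψ hΨP
  subst hΨe
  set L' := L ⊔ Submodule.span F {Ψ.e} with hL'
  have hlt : Module.finrank F L < Module.finrank F L' :=
    Submodule.finrank_lt_finrank_of_lt (lt_of_le_of_ne le_sup_left fun h => by
      have hm : Ψ.e ∈ L := h.symm ▸ Submodule.mem_sup_right (Submodule.mem_span_singleton_self _)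
      exact Ψ.not_line hQ (hL hm) hz0 1 (one_smul _ _).symm)
  have hstar : ∀ b ∈ L', Star hQ x Ψ.e b := fun b hb => by
    obtain ⟨l, hl, w, hw', rfl⟩ := Submodule.mem_sup.1 hb
    obtain ⟨m, rfl⟩ := Submodule.mem_span_singleton.1 hw'
    exact (hLs l hl).add Ψ.hQe (Star.self Ψ.hQe x m)
  have hd1 := finrank_orthIn hQ L' u
  obtain ⟨s, hs, hs0, hQs⟩ := exists_singular_mem hQ (orthIn hQ L' u) (by omega)
  obtain ⟨hsL, hsu⟩ := (mem_orthIn hQ).1 hs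
  refine ⟨s, hQs, hs0, fun a ha => ?_⟩
  set l := pol Q a u / pol Q Ψ.e u with hl
  have h1 := hall s hQs hsu (a - l • Ψ.e) (by rw [psub_left hQ, psmul_left hQ, hl, div_mul_cancel₀ _ hzu, sub_self])
    (by rw [psub_right hQ, psmul_right hQ, ha, pcomm s Ψ.e, (hstar s hsL).1]; ring)
  have h3 := h1.add hQs ((hstar _ (L'.smul_mem l hsL)).swap_smul hQ Ψ.hQe hQs)
  rw [sub_add_cancel] at h3
  exact h3.2

/-- A hyperplane of stars at `e` and stars at `f` with a common nonsingular vector give a full vector. -/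
theorem full_of_pair (h2 : (2 : F) ≠ 0) (hP : Φ.P = ⊤) (hn : 7 ≤ Fintype.card ι)
    (hwide : ∀ Ψ : Frame Q, Ψ.P = ⊤ → Wide hQ Ψ x) {u : ι → F} (hu : u ∈ Φ.W hQ) (hu0 : u ≠ 0)
    (heu : ∀ a ∈ Φ.W hQ, pol Q a u = 0 → Star hQ x Φ.e a) {L : Submodule F (ι → F)} (hL : L ≤ Φ.W hQ)
    (hLs : ∀ a ∈ L, Star hQ x Φ.f a) {k : ι → F} (hkK : k ∈ orthIn hQ (Φ.W hQ) u) (hkL : k ∈ L)
    (hQk : Q k ≠ 0) : ∃ c, Q c = 0 ∧ c ≠ 0 ∧ Full hQ x c := by
  set K := orthIn hQ (Φ.W hQ) u with hK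
  have hKs : ∀ a ∈ K, Star hQ x Φ.e a := fun a ha => heu a ((mem_orthIn hQ).1 ha).1 ((mem_orthIn hQ).1 ha).2
  have hes := flip_star hQ Φ h2 inf_le_left hL hKs hLs hkK hkL hQk
  by_cases hLK : ∀ b ∈ L, pol Q b u = 0
  · refine full_of_common hQ Φ hP hn hwide hu hu0 heu fun a ha hau => ?_
    exact flip_star hQ (Φ.symm (Φ.hfe hQ)) h2 (fun b hb => (Φ.mem_W_symm hQ).2 (hL hb))
      (fun b hb => (Φ.mem_W_symm hQ).2 ((mem_orthIn hQ).1 hb).1) hLs hKs hkL hkK hQk a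
      ((mem_orthIn hQ).2 ⟨ha, hau⟩)
  · simp only [not_forall] at hLK
    obtain ⟨b, hb, hbu⟩ := hLK
    refine ⟨Φ.e, Φ.hQe, Φ.e_ne hQ, Φ.full_of_W hQ hP fun a ha => ?_⟩
    set l := pol Q a u / pol Q b u with hl
    have h1 := (hKs (a - l • b) ((mem_orthIn hQ).2 ⟨(Φ.W hQ).sub_mem ha ((Φ.W hQ).smul_mem l (hL hb)), by
      rw [psub_left hQ, psmul_left hQ, hl, div_mul_cancel₀ _ hbu, sub_self]⟩)).add Φ.hQe
      (hes _ (L.smul_mem l hb))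
    rw [sub_add_cancel] at h1
    exact h1.2

/-- A hyperplane of stars gives a full vector. -/
theorem full_of_hyp (h2 : (2 : F) ≠ 0) (hP : Φ.P = ⊤) (hn : Fintype.card ι = 7)
    (hw : ∀ Ψ : Frame Q, Ψ.P = ⊤ → Full hQ x Ψ.e ∨ HypW hQ Ψ x ∨ TsW hQ Ψ x) (he : HypW hQ Φ x) :
    ∃ c, Q c = 0 ∧ c ≠ 0 ∧ Full hQ x c := by
  obtain ⟨u, hu, hu0, heu⟩ := he
  have hW5 := W_five hQ Φ hP hn
  have hwide : ∀ Ψ : Frame Q, Ψ.P = ⊤ → Wide hQ Ψ x := fun Ψ hΨ =>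
    wide_of hQ Ψ (W_five hQ Ψ hΨ hn) (hw Ψ hΨ)
  set K := orthIn hQ (Φ.W hQ) u with hK
  have hK4 : 4 ≤ Module.finrank F K := by
    have := finrank_orthIn hQ (Φ.W hQ) u
    rw [hK]
    omega
  have hKs : ∀ a ∈ K, Star hQ x Φ.e a := fun a ha => heu a ((mem_orthIn hQ).1 ha).1 ((mem_orthIn hQ).1 ha).2
  have main : ∀ L : Submodule F (ι → F), L ≤ Φ.W hQ → (∀ a ∈ L, Star hQ x Φ.f a) →
      (∃ k ∈ K ⊓ L, Q k ≠ 0) → ∃ c, Q c = 0 ∧ c ≠ 0 ∧ Full hQ x c := fun L hL hLs ⟨k, hk, hQk⟩ =>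
    full_of_pair hQ Φ h2 hP hn.ge hwide hu hu0 heu hL hLs hk.1 hk.2 hQk
  have hf0 : Φ.f ≠ 0 := fun h => one_ne_zero (Φ.hef.symm.trans (by rw [h, pzero_right hQ]))
  rcases hw (Φ.symm (Φ.hfe hQ)) hP with h | ⟨u', hu', -, hfu'⟩ | ⟨L, hL, hL3, hLs, hLrad⟩
  · exact ⟨Φ.f, Φ.hQf, hf0, h⟩
  · refine main (orthIn hQ (Φ.W hQ) u') inf_le_left
      (fun a ha => hfu' a ((Φ.mem_W_symm hQ).2 ((mem_orthIn hQ).1 ha).1) ((mem_orthIn hQ).1 ha).2) ?_
    have h1 := finrank_orthIn hQ K u'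
    obtain ⟨k, hk, hQk⟩ := exists_nonsingular_mem hQ (Φ.W_nd hQ) hW5 (L := orthIn hQ K u')
      (inf_le_left.trans inf_le_left) (by omega)
    exact ⟨k, ⟨hk.1, (mem_orthIn hQ).2 ⟨((mem_orthIn hQ).1 hk.1).1, hk.2⟩⟩, hQk⟩
  have hLW : L ≤ Φ.W hQ := fun a ha => (Φ.mem_W_symm hQ).1 (hL ha)
  by_cases hk : ∃ k ∈ K ⊓ L, Q k ≠ 0
  · exact main L hLW hLs hk
  simp only [not_exists, not_and, not_not, ne_eq] at hk
  obtain ⟨z, hzL, hQz⟩ := exists_nonsingular_mem hQ (Φ.W_nd hQ) hW5 hLW hL3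
  have hzu : pol Q z u ≠ 0 := fun h => hQz (hk z ⟨(mem_orthIn hQ).2 ⟨hLW hzL, h⟩, hzL⟩)
  have hd := finrank_orthIn hQ L u
  obtain ⟨c, hc, hc0⟩ := Submodule.exists_mem_ne_zero_of_ne_bot (p := orthIn hQ L u) (fun h => by
    rw [h, finrank_bot] at hd
    omega)
  obtain ⟨hcL, hcu⟩ := (mem_orthIn hQ).1 hc
  have hcW : c ∈ Φ.W hQ := hLW hcL
  have hcK : c ∈ K := (mem_orthIn hQ).2 ⟨hcW, hcu⟩
  have hQc : Q c = 0 := hk c ⟨hcK, hcL⟩
  refine ⟨c, hQc, hc0, Φ.full_mid hQ hP hcW hQc (fun t => hKs _ (K.smul_mem t hcK))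
    (fun t => hLs _ (L.smul_mem t hcL)) fun a ha hac => ?_⟩
  set l := pol Q a u / pol Q z u with hl
  have hzc : pol Q z c = 0 := hLrad c hcL hQc z hzL
  have h1 := Φ.star_mid hQ hcW hQc ((Φ.W hQ).sub_mem ha ((Φ.W hQ).smul_mem l (hLW hzL)))
    (by rw [psub_left hQ, psmul_left hQ, hac, hzc]; ring)
    (hKs _ ((mem_orthIn hQ).2 ⟨(Φ.W hQ).sub_mem ha ((Φ.W hQ).smul_mem l (hLW hzL)), by
      rw [psub_left hQ, psmul_left hQ, hl, div_mul_cancel₀ _ hzu, sub_self]⟩))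
    (fun t => hKs _ (K.smul_mem t hcK)) (hLs c hcL)
  have h3 := Φ.star_mid' hQ hcW hQc ((Φ.W hQ).smul_mem l (hLW hzL))
    (by rw [psmul_left hQ, hzc, mul_zero]) (hLs _ (L.smul_mem l hzL))
    (fun t => hLs _ (L.smul_mem t hcL)) (hKs c hcK)
  have h4 := h1.add hQc h3
  rwa [sub_add_cancel] at h4

/-- Some frame has a hyperplane of stars, if there is no full vector. -/
theorem exists_hyp (h2 : (2 : F) ≠ 0) (hP : Φ.P = ⊤) (hn : Fintype.card ι = 7)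
    (hw : ∀ Ψ : Frame Q, Ψ.P = ⊤ → TsW hQ Ψ x) : ∃ Ψ : Frame Q, Ψ.P = ⊤ ∧ HypW hQ Ψ x := by
  have hW5 := W_five hQ Φ hP hn
  obtain ⟨L₁, hL₁, h₁3, h₁s, h₁rad⟩ := hw Φ hP
  obtain ⟨L₂, hL₂', h₂3, h₂s, h₂rad⟩ := hw (Φ.symm (Φ.hfe hQ)) hP
  have hL₂ : L₂ ≤ Φ.W hQ := fun a ha => (Φ.mem_W_symm hQ).1 (hL₂' ha)
  by_cases hc : ∃ c ∈ L₁ ⊓ L₂, Q c = 0 ∧ c ≠ 0
  · obtain ⟨c, ⟨hc₁, hc₂⟩, hQc, hc0⟩ := hc
    obtain ⟨Ψ, hΨP, hΨe⟩ := exists_frame hQ (by omega) hQc hc0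
    set E := L₁ ⊔ Submodule.span F {Φ.e} with hE
    set D := E ⊔ Submodule.span F {Φ.f} with hD
    have hEe : ∀ a ∈ E, pol Q a Φ.e = 0 := fun a ha => by
      obtain ⟨l, hl, w, hw', rfl⟩ := Submodule.mem_sup.1 ha
      obtain ⟨m, rfl⟩ := Submodule.mem_span_singleton.1 hw'
      rw [padd_left hQ, psmul_left hQ, Φ.pol_e' hQ (hL₁ hl), pol_self_singular hQ Φ.hQe]
      ring
    have hlt1 : Module.finrank F L₁ < Module.finrank F E :=
      Submodule.finrank_lt_finrank_of_lt (lt_of_le_of_ne le_sup_left fun h => by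
        have hm : Φ.e ∈ L₁ := h.symm ▸ Submodule.mem_sup_right (Submodule.mem_span_singleton_self _)
        exact Φ.not_line hQ (hL₁ hm) (Φ.e_ne hQ) 1 (one_smul _ _).symm)
    have hlt2 : Module.finrank F E < Module.finrank F D :=
      Submodule.finrank_lt_finrank_of_lt (lt_of_le_of_ne le_sup_left fun h => by
        have hm : Φ.f ∈ E := h.symm ▸ Submodule.mem_sup_right (Submodule.mem_span_singleton_self _)
        exact one_ne_zero ((Φ.hfe hQ).symm.trans (hEe _ hm)))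
    have hDs : ∀ a ∈ D, Star hQ x c a := fun a ha => by
      obtain ⟨a', ha', w, hw', rfl⟩ := Submodule.mem_sup.1 ha
      obtain ⟨m, rfl⟩ := Submodule.mem_span_singleton.1 hw'
      obtain ⟨l, hl, w', hw'', rfl⟩ := Submodule.mem_sup.1 ha'
      obtain ⟨m', rfl⟩ := Submodule.mem_span_singleton.1 hw''
      exact ((Φ.star_mid hQ (hL₁ hc₁) hQc (hL₁ hl) (h₁rad c hc₁ hQc l hl) (h₁s l hl)
        (fun t => h₁s _ (L₁.smul_mem t hc₁)) (h₂s c hc₂)).add hQc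
        ((h₁s _ (L₁.smul_mem m' hc₁)).swap_smul hQ Φ.hQe hQc)).add hQc
        (Star.swap_smul hQ Φ.hQf hQc (h₂s _ (L₂.smul_mem m hc₂)))
    subst hΨe
    refine ⟨Ψ, hΨP, hyp_of_sub hQ Ψ (W_five hQ Ψ hΨP hn) (L := orthIn hQ D Ψ.f)
      (fun a ha => (mem_pairPerp hQ).2 ⟨by rw [hΨP]; exact Submodule.mem_top,
        by rw [pcomm]; exact (hDs a ha.1).1, ha.2⟩) (fun a ha => hDs a ha.1) ?_⟩
    have := finrank_orthIn hQ D Ψ.f
    omega
  simp only [not_exists, not_and, ne_eq, not_not] at hc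
  obtain ⟨k, hk, hk0⟩ := Submodule.exists_mem_ne_zero_of_ne_bot (p := L₁ ⊓ L₂) (fun h => by
    have h1 := Submodule.finrank_sup_add_finrank_inf_eq L₁ L₂
    have h3 := Submodule.finrank_mono (sup_le hL₁ hL₂)
    rw [h, finrank_bot] at h1
    omega)
  have hQk : Q k ≠ 0 := fun h => hk0 (hc k hk h)
  have hes := flip_star hQ Φ h2 hL₁ hL₂ h₁s h₂s hk.1 hk.2 hQk
  have hlt : Module.finrank F L₁ < Module.finrank F ↥(L₁ ⊔ L₂) :=
    Submodule.finrank_lt_finrank_of_lt (lt_of_le_of_ne le_sup_left fun h => by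
      obtain ⟨c, hcL, hc0, hQc⟩ := exists_singular_mem hQ L₂ h₂3
      exact hc0 (hc c ⟨h.symm ▸ Submodule.mem_sup_right hcL, hcL⟩ hQc))
  refine ⟨Φ, hP, hyp_of_sub hQ Φ hW5 (L := L₁ ⊔ L₂) (sup_le hL₁ hL₂) (fun a ha => ?_) (by omega)⟩
  obtain ⟨l, hl, l', hl', rfl⟩ := Submodule.mem_sup.1 ha
  exact (h₁s l hl).add Φ.hQe (hes l' hl')

omit Φ in
/-- A proper subgroup of the Eichler group in dimension seven has large index. -/
theorem index_bound (h2 : (2 : F) ≠ 0) (hq : 5 ≤ Fintype.card F) (hn : Fintype.card ι = 7)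
    (hS : (sphere Q (⊤ : Submodule F (ι → F)) 0).ncard = Fintype.card F ^ 6) {H : Subgroup ↥(eGroup Q)}
    (hH : H ≠ ⊤) : (sphere Q (⊤ : Submodule F (ι → F)) 0).ncard - 1 ≤ H.index * (Fintype.card F - 1) := by
  classical
  by_contra hlt
  rw [not_le] at hlt
  set X := ↥(eGroup Q) ⧸ H
  have hsmall : Nat.card X * (Fintype.card F - 1) < (sphere Q (⊤ : Submodule F (ι → F)) 0).ncard - 1 := hlt
  have hX : Nat.card X * (Fintype.card F - 1) < Fintype.card F ^ 6 := by rw [hS] at hsmall; omega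
  set x : X := QuotientGroup.mk 1
  have hnofull : ¬ ∀ z, Q z = 0 → z ≠ 0 → Full hQ x z := fun h => by
    refine hH (eq_top_iff.2 fun g _ => ?_)
    have h1 : (QuotientGroup.mk (g * 1) : X) = QuotientGroup.mk 1 := fix_of_all_full hQ h g
    rwa [QuotientGroup.eq, mul_one, mul_one, inv_mem_iff] at h1
  have hw : ∀ Ψ : Frame Q, Ψ.P = ⊤ → Full hQ x Ψ.e ∨ HypW hQ Ψ x ∨ TsW hQ Ψ x := fun Ψ hΨ => by
    rcases classify hQ Ψ h2 hq hΨ hn hX x with h | h | h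
    · exact Or.inl h
    · exact (not_triv hQ h2 hq hn hX hsmall x Ψ.hQe (Ψ.e_ne hQ) h).elim
    · exact Or.inr h
  obtain ⟨z₀, hz₀, hz₀0, hQz₀⟩ := exists_singular_mem hQ (⊤ : Submodule F (ι → F))
    (by rw [finrank_top, Module.finrank_fintype_fun_eq_card]; omega)
  have hfull : ∃ z, Q z = 0 ∧ z ≠ 0 ∧ Full hQ x z := by
    by_contra hnone
    simp only [not_exists, not_and] at hnone
    obtain ⟨Φ, hP, -⟩ := exists_frame hQ (by omega) hQz₀ hz₀0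
    have hhyp : ∃ Ψ : Frame Q, Ψ.P = ⊤ ∧ HypW hQ Ψ x := by
      by_contra hno
      simp only [not_exists, not_and] at hno
      exact absurd (exists_hyp hQ Φ h2 hP hn fun Ψ hΨ =>
        ((hw Ψ hΨ).resolve_left (hnone _ Ψ.hQe (Ψ.e_ne hQ))).resolve_left (hno Ψ hΨ))
        fun ⟨Ψ, hΨ, h⟩ => hno Ψ hΨ h
    obtain ⟨Ψ, hΨ, h⟩ := hhyp
    obtain ⟨c, hc, hc0, hcF⟩ := full_of_hyp hQ Ψ h2 hΨ hn hw h
    exact hnone c hc hc0 hcF
  have hspread : ∀ z w, Q z = 0 → Q w = 0 → Full hQ x z → pol Q z w ≠ 0 → Full hQ x w := by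
    intro z w hz hw' hzF hzw
    have hwQ : Q ((pol Q z w)⁻¹ • w) = 0 := by rw [qsmul hQ, hw', mul_zero]
    have hzw' : pol Q ((pol Q z w)⁻¹ • w) z = 1 := by
      rw [psmul_left hQ, pcomm w z, inv_mul_cancel₀ hzw]
    set Φ : Frame Q := topFrame hQ (by omega) hwQ hz hzw'
    obtain ⟨L, hL, hL3, hLs⟩ := wide_of hQ Φ (W_five hQ Φ rfl hn) (hw Φ rfl)
    obtain ⟨k, hk, hQk⟩ := exists_nonsingular_mem hQ (Φ.W_nd hQ) (W_five hQ Φ rfl hn) hL hL3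
    refine Full.of_smul hw' (inv_ne_zero hzw) (Φ.full_of_W hQ rfl fun a ha => ?_)
    exact (flip_star hQ Φ h2 hL le_rfl hLs (fun b hb => hzF.star (by rw [pcomm]; exact Φ.pol_f hQ hb))
      hk (hL hk) hQk a ha).2
  obtain ⟨z, hz, hz0, hzF⟩ := hfull
  refine hnofull fun w hw' hw0 => ?_
  by_cases hzw : pol Q z w = 0
  · obtain ⟨t, ht, hzt, htw⟩ := exists_common_nonorth hQ hz0 hw0 hz hzw
    exact hspread t w ht hw' (hspread z t hz ht hzF hzt) htw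
  · exact hspread z w hz hw' hzF hzw

end CfsgLib.PGroup.OrthSeven
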