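import Mathlib.Algebra.IsPrimePow
import Mathlib.Data.Nat.Prime.Basic
import Mathlib.Algebra.Ring.Parity
import Mathlib.Tactic.Linarith
import Mathlib.Tactic.Ring

/-!
The numerical facts for dimension seven.
-/

set_option autoImplicit false

namespace CfsgLib.PGroup.OrthSeven

theorem le_cube {p k i : ℕ} (hp : 3 ≤ p) (hq : 5 ≤ p ^ k)
    (h : (p ^ k - 1) ^ 2 * (p ^ i) ^ 2 < (p ^ k) ^ 8) : p ^ i ≤ (p ^ k) ^ 3 := by
  by_contra hcon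
  rw [not_le, ← pow_mul, Nat.pow_lt_pow_iff_right (by omega)] at hcon
  have h1 : 3 * (p ^ k) ^ 3 ≤ p ^ i := by
    calc 3 * (p ^ k) ^ 3 ≤ p * (p ^ k) ^ 3 := Nat.mul_le_mul_right _ hp
      _ = p ^ (k * 3 + 1) := by ring
      _ ≤ p ^ i := Nat.pow_le_pow_right (by omega) hcon
  generalize p ^ k = q at h h1 hq
  generalize p ^ i = U at h h1
  obtain ⟨r, rfl⟩ : ∃ r, q = r + 1 := ⟨q - 1, by omega⟩
  rw [Nat.add_sub_cancel] at h
  have h2 : r ^ 2 * (3 * (r + 1) ^ 3) ^ 2 ≤ r ^ 2 * U ^ 2 :=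
    Nat.mul_le_mul_left _ (Nat.pow_le_pow_left h1 2)
  have h3 : (r + 1) ^ 8 ≤ r ^ 2 * (3 * (r + 1) ^ 3) ^ 2 := by
    calc (r + 1) ^ 8 = (r + 1) ^ 2 * (r + 1) ^ 6 := by ring
      _ ≤ (9 * r ^ 2) * (r + 1) ^ 6 := Nat.mul_le_mul_right _ (by nlinarith)
      _ = _ := by ring
  omega

theorem many_types {p k : ℕ} (hp : 3 ≤ p) (hodd : Odd p) (hq : 5 ≤ p ^ k) :
    2 * (p ^ k) ^ 5 ≤ p * (p ^ k - 1) ^ 4 * (p ^ k + 1) := by
  rcases Nat.lt_or_ge k 2 with hk | hk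
  · obtain rfl : k = 1 := by
      rcases Nat.eq_zero_or_pos k with rfl | h
      · simp at hq
      · omega
    rw [pow_one] at hq ⊢
    obtain ⟨t, rfl⟩ : ∃ t, p = t + 5 := ⟨p - 5, by omega⟩
    rw [show t + 5 - 1 = t + 4 by omega]
    have : 2 * (t + 5) ^ 4 ≤ (t + 4) ^ 4 * (t + 5 + 1) := by
      ring_nf
      omega
    calc 2 * (t + 5) ^ 5 = (t + 5) * (2 * (t + 5) ^ 4) := by ring
      _ ≤ (t + 5) * ((t + 4) ^ 4 * (t + 5 + 1)) := Nat.mul_le_mul_left _ this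
      _ = _ := by ring
  · have h9 : 9 ≤ p ^ k :=
      le_trans (by norm_num : 9 ≤ 3 ^ 2) (le_trans (Nat.pow_le_pow_left hp 2) (Nat.pow_le_pow_right (by omega) hk))
    generalize p ^ k = q at h9 ⊢
    obtain ⟨t, rfl⟩ : ∃ t, q = t + 9 := ⟨q - 9, by omega⟩
    rw [show t + 9 - 1 = t + 8 by omega]
    refine le_trans ?_ (Nat.mul_le_mul_right _ (Nat.mul_le_mul_right _ hp))
    ring_nf
    omega

end CfsgLib.PGroup.OrthSeven
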