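import Cfsg.Agent.Lib.PGroup.OrthSeven.Geometry
import Cfsg.Agent.Lib.PGroup.OrthSeven.Arith

/-!
The duals at a singular vector in dimension seven, odd characteristic.
-/

set_option autoImplicit false
set_option linter.unusedSectionVars false

namespace CfsgLib.PGroup.OrthSeven

open scoped Matrix
open Matrix Cfsg.Geo CfsgLib.Perm.Asch CfsgLib.Perm.Trans CfsgLib.Perm.Trans.Quad CfsgLib.PGroup.OrthIndex

variable {ι : Type} [Fintype ι] [DecidableEq ι] {F : Type*} [Field F] [Fintype F]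
variable {Q : (ι → F) → F}

local notation "pol" => QuadraticMap.polar

variable (hQ : IsNondegenerateQuadraticForm Q)
variable {X : Type*} [MulAction ↥(eGroup Q) X]

/-- The stars at the first vector contain the orthogonal in `W` of a non-zero vector of `W`. -/
def HypW (Φ : Frame Q) (x : X) : Prop :=
  ∃ u ∈ Φ.W hQ, u ≠ 0 ∧ ∀ a ∈ Φ.W hQ, pol Q a u = 0 → Star hQ x Φ.e a

/-- The stars at the first vector contain three dimensions of `W` whose singular vectors are in the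
radical. -/
def TsW (Φ : Frame Q) (x : X) : Prop :=
  ∃ L : Submodule F (ι → F), L ≤ Φ.W hQ ∧ 3 ≤ Module.finrank F L ∧ (∀ a ∈ L, Star hQ x Φ.e a) ∧
    ∀ c ∈ L, Q c = 0 → ∀ a ∈ L, pol Q a c = 0

include hQ

variable (Φ : Frame Q)

theorem W_five (hP : Φ.P = ⊤) (hn : Fintype.card ι = 7) : Module.finrank F (Φ.W hQ) = 5 := by
  have := Φ.W_finrank hQ
  rw [hP, finrank_top, Module.finrank_fintype_fun_eq_card, hn] at this
  omega

theorem prime_two (h2 : (2 : F) ≠ 0) :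
    ∃ p k : ℕ, CharP F p ∧ 3 ≤ p ∧ Odd p ∧ Fintype.card F = p ^ k ∧ p.Prime := by
  obtain ⟨p, hchar⟩ := CharP.exists F
  haveI := hchar
  obtain ⟨k, hp, hk⟩ := FiniteField.card F p
  have hp2 : p ≠ 2 := fun h => h2 (by
    subst h
    exact CharTwo.two_eq_zero)
  exact ⟨p, k, hchar, by have := hp.two_le; omega, hp.odd_of_ne_two hp2, hk, hp⟩

/-- A fixed vector of `W` bounds the dual. -/
theorem ann_bound (h2 : (2 : F) ≠ 0) (hq : 5 ≤ Fintype.card F) (hW5 : Module.finrank F (Φ.W hQ) = 5)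
    [Finite X] (hX : Nat.card X * (Fintype.card F - 1) < Fintype.card F ^ 6) (x : X) {a : ι → F}
    (ha : a ∈ Φ.W hQ) (ha0 : a ≠ 0) (hfix : el hQ Φ.e a • x = x) :
    (Φ.dual hQ x).ncard ≤ Fintype.card F ^ 3 := by
  classical
  set S := Nat.card (Φ.stab hQ x) with hS
  have hcard : ∀ g ∈ inner hQ (Φ.W hQ), Nat.card (Φ.stab hQ (g • x)) = S := fun g hg => by
    have h1 := AddSubgroup.card_eq_card_quotient_mul_card_addSubgroup (Φ.stab hQ (g • x))
    have h2 := AddSubgroup.card_eq_card_quotient_mul_card_addSubgroup (Φ.stab hQ x)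
    rw [← Φ.dual_card hQ, (Φ.mem_inner_levi hQ hg).dual_ncard x] at h1
    rw [← Φ.dual_card hQ, h1] at h2
    exact Nat.eq_of_mul_eq_mul_left (Φ.dual_ncard_pos hQ x) h2
  let mem : (ι → F) → Set (ι → F) → Prop :=
    fun t U => t ∈ Φ.W hQ ∧ t ≠ 0 ∧ ∀ u ∈ U, psi F (pol Q t u) = 1
  have hT : ∀ t ∈ sphere Q (Φ.W hQ) (Q a) \ {0}, ∃ U ∈ Φ.duals hQ x, mem t U := by
    rintro t ⟨⟨ht, hQt⟩, ht0⟩
    obtain ⟨g, hg, -, hga⟩ := move_odd hQ h2 (by omega) (Φ.W_nd hQ) hW5.ge (Φ.W hQ).zero_mem (Or.inl rfl)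
      ha ht (fun c => by rwa [smul_zero]) (fun c => by rwa [smul_zero]) hQt.symm
      (by rw [pzero_left hQ, pzero_left hQ])
    refine ⟨_, ⟨g, 1, Φ.mem_inner_levi hQ hg, rfl⟩, ht, ht0, ?_⟩
    rw [(Φ.mem_inner_levi hQ hg).dual x]
    rintro _ ⟨u, hu, rfl⟩
    rw [Φ.leviMap_of_mem hQ (inner_maps hQ hg hu.1), inv_one, one_smul, ← hga, pol_act]
    exact hu.2 a ha hfix
  have h1 := Φ.duals_tuples hQ (Ω := Set.univ) Set.finite_univ x (fun g c _ b _ => Set.mem_univ _) mem _ hT S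
    fun U hU => by
      obtain ⟨g, c, hg, rfl⟩ := hU
      have h1 := AddSubgroup.card_eq_card_quotient_mul_card_addSubgroup (Φ.stab hQ (g • x))
      have h2 := AddSubgroup.card_eq_card_quotient_mul_card_addSubgroup (Φ.stab hQ x)
      rw [← Φ.dual_card hQ, hg.dual_ncard x] at h1
      rw [← Φ.dual_card hQ, h1] at h2
      rw [hS, ← Nat.eq_of_mul_eq_mul_left (Φ.dual_ncard_pos hQ x) h2, ← Nat.card_coe_set_eq]
      refine Nat.card_le_card_of_injective (fun t => ⟨⟨t.1, t.2.1⟩,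
        (Φ.mem_stab hQ).2 (Φ.fix_of_dual hQ t.2.1 t.2.2.2)⟩) fun s t h => Subtype.ext ?_
      exact congrArg (fun b : Φ.stab hQ (g • x) => ((b : Φ.W hQ) : ι → F)) h
  rw [Set.ncard_univ] at h1
  have h3 := sphere_lower hQ (Φ.W_nd hQ) (by omega) (Q a)
  have h4 := sphere_ne_zero_card hQ (Φ.W hQ) (Q a)
  have h5 := AddSubgroup.card_eq_card_quotient_mul_card_addSubgroup (Φ.stab hQ x)
  rw [← Φ.dual_card hQ, ← hS, natCard_submodule hQ, hW5] at h5
  rw [hW5, show 5 - 2 = 3 from rfl] at h3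
  obtain ⟨p, k, -, hp3, -, hk, hp⟩ := prime_two hQ h2
  have hdvd := Φ.dual_card_dvd hQ x
  rw [hW5, hk, ← pow_mul] at hdvd
  obtain ⟨i, -, hi⟩ := (Nat.dvd_prime_pow hp).1 hdvd
  rw [hi] at h1 h5 ⊢
  rw [hk] at h3 h5 hX hq ⊢
  refine le_cube hp3 hq (Nat.lt_of_mul_lt_mul_left (a := (p ^ k) ^ 3) ?_)
  generalize p ^ k = q at *
  generalize p ^ i = U at *
  calc q ^ 3 * ((q - 1) ^ 2 * U ^ 2) = (q - 1) * q ^ 3 * U * U * (q - 1) := by ring
    _ ≤ Nat.card X * S * U * (q - 1) := by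
      refine Nat.mul_le_mul_right _ (Nat.mul_le_mul_right _ (le_trans (Nat.mul_le_mul_right _ ?_) h1))
      omega
    _ = Nat.card X * (q - 1) * (U * S) := by ring
    _ < q ^ 6 * (U * S) := Nat.mul_lt_mul_of_pos_right hX (by
      rw [← h5]
      exact pow_pos (by omega) 5)
    _ = q ^ 3 * q ^ 8 := by rw [← h5]; ring

/-- Many types of pairs with a nonsingular vector force a large dual. -/
theorem pair_bound (h2 : (2 : F) ≠ 0) (hq : 5 ≤ Fintype.card F) (hW5 : Module.finrank F (Φ.W hQ) = 5)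
    [Finite X] (hX : Nat.card X * (Fintype.card F - 1) < Fintype.card F ^ 6) (x : X) {u v : ι → F}
    (hu : u ∈ Φ.dual hQ x) (hQu : Q u ≠ 0) (hv : v ∈ Φ.dual hQ x) (hvu : ∀ k : F, v ≠ k • u) :
    Fintype.card F ^ 3 < (Φ.dual hQ x).ncard := by
  classical
  obtain ⟨p, k, hchar, hp3, hpodd, hk, -⟩ := prime_two hQ h2
  have hu0 : u ≠ 0 := fun h => hQu (by rw [h, qzero hQ])
  set R : Set F := {r : F | ∃ c : F, c ≠ 0 ∧ r = c ^ 2} with hR
  let w : ℕ → (ι → F) := fun j => v + (j : F) • u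
  have hw : ∀ j, w j ∈ Φ.dual hQ x := fun j => by
    induction j with
    | zero => simpa [w] using hv
    | succ j ih =>
      have := Φ.add_mem_dual hQ ih hu
      simp only [w, Nat.cast_succ, add_smul, one_smul, ← add_assoc] at this ⊢
      exact this
  have hwn : ∀ j (c : F), w j ≠ c • u := fun j c h => hvu (c - (j : F)) (by
    rw [sub_smul, ← h]
    exact (add_sub_cancel_right v _).symm)
  let A : F → Set (ι → F) := fun r => sphere Q (Φ.W hQ) (r * Q u) \ {0}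
  let B : F → ℕ → (ι → F) → Set (ι → F) := fun r j u' => {v' : ι → F | v' ∈ Φ.W hQ ∧
    Q v' = r * Q (w j) ∧ pol Q v' u' = r * pol Q (w j) u ∧ ∀ c : F, v' ≠ c • u'}
  let T : Set ((ι → F) × (ι → F)) :=
    {t | ∃ r ∈ R, ∃ j < p, t.1 ∈ A r ∧ t.2 ∈ B r j t.1}
  have hT : ∀ t ∈ T, ∃ U ∈ Φ.duals hQ x, t.1 ∈ U ∧ t.1 ≠ 0 ∧ t.2 ∈ U := by
    rintro ⟨u', v'⟩ ⟨r, ⟨c, hc, rfl⟩, j, -, ⟨⟨hu', hQu'⟩, hu'0⟩, hv', hQv', hpol, hvn⟩
    obtain ⟨g, hg, hge, hgf⟩ := exists_scale hQ (by omega) Φ.nd Φ.six Φ.he Φ.hf Φ.hQe Φ.hQf Φ.hef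
      (inv_ne_zero hc)
    have hgW : ∀ a ∈ Φ.W hQ, act g a ∈ Φ.W hQ := fun a ha => (mem_pairPerp hQ).2
      ⟨inner_maps hQ hg (Φ.W_le hQ ha), by
        have h := pol_act g a Φ.e
        rw [hge, psmul_right hQ, Φ.pol_e' hQ ha, mul_eq_zero] at h
        exact h.resolve_left (inv_ne_zero hc), by
        have h := pol_act g a Φ.f
        rw [hgf, psmul_right hQ, Φ.pol_f hQ ha, mul_eq_zero, inv_inv] at h
        exact h.resolve_left hc⟩
    have hgu0 : act g u ≠ 0 := fun h => hu0 (act_injective g (by rw [h, act_zero]))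
    have hQcu : Q (c⁻¹ • u') = Q u := by
      rw [qsmul hQ, hQu', ← mul_assoc, ← mul_pow, inv_mul_cancel₀ hc, one_pow, one_mul]
    obtain ⟨h₁, hh₁, -, h₁u⟩ := move_odd hQ h2 (by omega) (Φ.W_nd hQ) hW5.ge (Φ.W hQ).zero_mem
      (Or.inl rfl) (hgW u hu.1) ((Φ.W hQ).smul_mem c⁻¹ hu') (fun l => by rwa [smul_zero])
      (fun l => by rw [smul_zero]; exact smul_ne_zero (inv_ne_zero hc) hu'0)
      (by rw [Q_act (Q := Q), hQcu]) (by rw [pzero_left hQ, pzero_left hQ])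
    obtain ⟨h₂, hh₂, h₂u, h₂v⟩ := move_odd hQ h2 (by omega) (Φ.W_nd hQ) hW5.ge
      ((Φ.W hQ).smul_mem c⁻¹ hu') (Or.inr (by rw [hQcu]; exact hQu))
      (inner_maps hQ hh₁ (hgW _ (hw j).1)) ((Φ.W hQ).smul_mem c⁻¹ hv')
      (fun l hl => hwn j l (act_injective g (act_injective h₁ (by rw [hl, act_smul, act_smul, h₁u]))))
      (fun l hl => hvn l (by
        have := congrArg (fun y => c • y) hl
        simp only [smul_smul] at this
        rw [mul_inv_cancel₀ hc, one_smul] at this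
        rwa [show c * (l * c⁻¹) = l by rw [mul_left_comm, mul_inv_cancel₀ hc, mul_one]] at this))
      (by rw [Q_act (Q := Q), Q_act (Q := Q), qsmul hQ, hQv', ← mul_assoc, ← mul_pow, inv_mul_cancel₀ hc,
        one_pow, one_mul])
      (by
        conv_lhs => rw [← h₁u]
        rw [pol_act, pol_act, psmul_left hQ, psmul_right hQ, pcomm u' v', hpol, pcomm u (w j)]
        field_simp)
    have hL : Φ.Levi hQ (h₂ * h₁ * g) c⁻¹ :=
      ⟨mul_mem (mul_mem (inner_mono hQ (Φ.W_le hQ) hh₂) (inner_mono hQ (Φ.W_le hQ) hh₁)) hg,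
        inv_ne_zero hc, by
        rw [act_mul, act_mul, hge, act_smul, act_smul, inner_fix hQ hh₁ fun a ha => Φ.pol_e hQ ha,
          inner_fix hQ hh₂ fun a ha => Φ.pol_e hQ ha]⟩
    have hmap : ∀ a b : ι → F, b ∈ Φ.W hQ → act (h₂ * h₁ * g) a = c⁻¹ • b →
        Φ.leviMap (h₂ * h₁ * g) c⁻¹ a = b := fun a b hb hab => by
      rw [Φ.leviMap_of_mem hQ (by rw [hab]; exact (Φ.W hQ).smul_mem _ hb), hab, inv_inv, smul_smul,
        mul_inv_cancel₀ hc, one_smul]
    refine ⟨_, ⟨_, _, hL, rfl⟩, ?_, hu'0, ?_⟩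
    · rw [hL.dual x]
      exact ⟨u, hu, hmap _ _ hu' (by rw [act_mul, act_mul, h₁u, h₂u])⟩
    · rw [hL.dual x]
      exact ⟨w j, hw j, hmap _ _ hv' (by rw [act_mul, act_mul, h₂v])⟩
  have h1 := Φ.duals_tuples hQ (Ω := Set.univ) Set.finite_univ x (fun g c _ a _ => Set.mem_univ _)
    (fun t U => t.1 ∈ U ∧ t.1 ≠ 0 ∧ t.2 ∈ U) T hT
    (((Φ.dual hQ x).ncard - 1) * (Φ.dual hQ x).ncard) fun U hU => by
      obtain ⟨g, c, hg, rfl⟩ := hU
      rw [← hg.dual_ncard x, ← Set.ncard_sdiff_singleton_of_mem (Φ.zero_mem_dual hQ (g • x)), ← Set.ncard_prod]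
      exact Set.ncard_le_ncard (fun t ht => ⟨⟨ht.1, ht.2.1⟩, ht.2.2⟩) (Set.toFinite _)
  set q := Fintype.card F with hqdef
  have hAc : ∀ r ∈ R, (q - 1) * q ^ 2 * (q + 1) ≤ (A r).ncard := fun r hr => by
    obtain ⟨c, hc, rfl⟩ := hr
    have hne : c ^ 2 * Q u ≠ 0 := mul_ne_zero (pow_ne_zero 2 hc) hQu
    rw [show A (c ^ 2) = sphere Q (Φ.W hQ) (c ^ 2 * Q u) from Set.sdiff_singleton_eq_self fun h0 =>
      hne (by rw [← h0.2, qzero hQ])]
    obtain ⟨P', -, hP', hd', heq⟩ := sphere_step hQ (Φ.W_nd hQ) (by omega) (c ^ 2 * Q u)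
    obtain ⟨P'', -, -, -, heq'⟩ := sphere_step hQ hP' (by omega) (c ^ 2 * Q u)
    rw [heq, heq', hW5, show Module.finrank F P' - 2 = 1 by omega, pow_one, ← hqdef]
    calc (q - 1) * q ^ 2 * (q + 1) = (q - 1) * q ^ (5 - 2) + q * ((q - 1) * q) := by ring
      _ ≤ _ := Nat.add_le_add_left (Nat.mul_le_mul_left _ (Nat.le_add_right _ _)) _
  have hBc : ∀ r, ∀ j, ∀ u' : ι → F, u' ∈ Φ.W hQ → u' ≠ 0 → (q - 1) * q ^ 2 ≤ (B r j u').ncard :=
    fun r j u' hu' hu'0 => by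
      have := card_slice_ge hQ (Φ.W_nd hQ) hW5.ge hu' hu'0 (r * Q (w j)) (r * pol Q (w j) u)
      rwa [hW5, ← hqdef] at this
  have h3 : R.ncard * p * ((q - 1) * q ^ 2 * (q + 1)) * ((q - 1) * q ^ 2) ≤ T.ncard := by
    haveI : Fintype R := Fintype.ofFinite _
    haveI : ∀ r : R, Fintype (A r.1) := fun r => Fintype.ofFinite _
    let toT : (Σ s : R × Fin p, Σ a : A s.1.1, B s.1.1 s.2 a.1) → T := fun t =>
      ⟨(t.2.1.1, t.2.2.1), t.1.1.1, t.1.1.2, t.1.2, t.1.2.2, t.2.1.2, t.2.2.2⟩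
    have hinj : Function.Injective toT := by
      rintro ⟨⟨r, j⟩, a, b⟩ ⟨⟨r', j'⟩, a', b'⟩ h
      have h' : (a.1, b.1) = (a'.1, b'.1) := congrArg Subtype.val h
      obtain ⟨ha, hb⟩ := Prod.mk.inj h'
      obtain rfl : r = r' := Subtype.ext (mul_right_cancel₀ hQu (by rw [← a.2.1.2, ← a'.2.1.2, ha]))
      have hpol : r.1 * pol Q (w j) u = r.1 * pol Q (w j') u :=
        b.2.2.2.1.symm.trans ((congrArg₂ (fun y z => pol Q y z) hb ha).trans b'.2.2.2.1)
      obtain ⟨c, hc, hrc⟩ := r.2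
      have hjj : ((j : ℕ) : F) = ((j' : ℕ) : F) := by
        have h4 := mul_left_cancel₀ (show r.1 ≠ 0 by rw [hrc]; exact pow_ne_zero 2 hc) hpol
        simp only [w, padd_left hQ, psmul_left hQ, add_right_inj] at h4
        exact mul_right_cancel₀ (by rw [pself hQ]; exact mul_ne_zero h2 hQu) h4
      obtain rfl : j = j' := Fin.ext (by
        have h5 := (CharP.natCast_eq_natCast F p).1 hjj
        rwa [Nat.ModEq, Nat.mod_eq_of_lt j.2, Nat.mod_eq_of_lt j'.2] at h5)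
      obtain rfl : a = a' := Subtype.ext ha
      obtain rfl : b = b' := Subtype.ext hb
      rfl
    have h4 := Nat.card_le_card_of_injective toT hinj
    rw [Nat.card_sigma, Nat.card_coe_set_eq T] at h4
    refine le_trans ?_ h4
    have hRp : R.ncard * p = Fintype.card (R × Fin p) := by
      rw [Fintype.card_prod, Fintype.card_fin, ← Nat.card_coe_set_eq, Nat.card_eq_fintype_card]
    rw [hRp, mul_assoc, ← smul_eq_mul, ← Finset.card_univ]
    refine Finset.card_nsmul_le_sum _ _ _ fun s _ => ?_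
    rw [Nat.card_sigma]
    refine le_trans (Nat.mul_le_mul_right _ (hAc s.1.1 s.1.2)) ?_
    rw [← Nat.card_coe_set_eq, Nat.card_eq_fintype_card, ← smul_eq_mul, ← Finset.card_univ]
    refine Finset.card_nsmul_le_sum _ _ _ fun a _ => ?_
    rw [Nat.card_coe_set_eq]
    exact hBc s.1.1 s.2 a.1 a.2.1.1 a.2.2
  obtain ⟨hs, -⟩ := card_squares (F := F)
  rw [← hR, ← hqdef] at hs
  rw [Set.ncard_univ] at h1
  set U := (Φ.dual hQ x).ncard with hUdef
  have hU0 : 0 < U := Φ.dual_ncard_pos hQ x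
  have h5 : R.ncard * p * ((q - 1) * q ^ 2 * (q + 1)) * ((q - 1) * q ^ 2) ≤ Nat.card X * (U - 1) := by
    refine Nat.le_of_mul_le_mul_right ((Nat.mul_le_mul_right _ h3).trans (h1.trans_eq ?_)) hU0
    ring
  have hkey : 2 * q ^ 5 ≤ p * (q - 1) ^ 4 * (q + 1) := by
    rw [hk]
    exact many_types hp3 hpodd (by rw [← hk]; exact hq)
  have h6 : q ^ 9 < q ^ 6 * (U - 1) := by
    have h7 : 2 * q ^ 9 ≤ 2 * (Nat.card X * (q - 1) * (U - 1)) := by
      calc 2 * q ^ 9 = q ^ 4 * (2 * q ^ 5) := by ring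
        _ ≤ q ^ 4 * (p * (q - 1) ^ 4 * (q + 1)) := Nat.mul_le_mul_left _ hkey
        _ = (q - 1) * p * ((q - 1) * q ^ 2 * (q + 1)) * ((q - 1) * q ^ 2) * (q - 1) := by ring
        _ ≤ 2 * R.ncard * p * ((q - 1) * q ^ 2 * (q + 1)) * ((q - 1) * q ^ 2) * (q - 1) := by gcongr
        _ = 2 * (R.ncard * p * ((q - 1) * q ^ 2 * (q + 1)) * ((q - 1) * q ^ 2)) * (q - 1) := by ring
        _ ≤ 2 * (Nat.card X * (U - 1)) * (q - 1) := by gcongr
        _ = _ := by ring
    refine lt_of_le_of_lt (Nat.le_of_mul_le_mul_left h7 two_pos) (Nat.mul_lt_mul_of_pos_right hX ?_)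
    by_contra h0
    rw [show U - 1 = 0 by omega, mul_zero, mul_zero] at h7
    exact absurd h7 (not_le.2 (Nat.mul_pos two_pos (pow_pos (by omega) 9)))
  have h8 : q ^ 6 * q ^ 3 < q ^ 6 * (U - 1) := by rwa [← pow_add]
  have := Nat.lt_of_mul_lt_mul_left h8
  omega

/-- The four kinds of stars. -/
theorem classify (h2 : (2 : F) ≠ 0) (hq : 5 ≤ Fintype.card F) (hP : Φ.P = ⊤) (hn : Fintype.card ι = 7)
    [Finite X] (hX : Nat.card X * (Fintype.card F - 1) < Fintype.card F ^ 6) (x : X) :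
    Full hQ x Φ.e ∨ Triv hQ x Φ.e ∨ HypW hQ Φ x ∨ TsW hQ Φ x := by
  classical
  have hW5 := W_five hQ Φ hP hn
  by_cases htr : ∀ a ∈ Φ.W hQ, el hQ Φ.e a • x = x → a = 0
  · refine Or.inr (Or.inl fun a ha => ?_)
    have ha' : Φ.proj a ∈ Φ.W hQ := Φ.proj_mem hQ (by rw [hP]; exact Submodule.mem_top) (by rw [pcomm, ha.1])
    have h0 : Φ.proj a = 0 := htr _ ha' (by rw [Φ.el_proj hQ ha.1]; exact ha.2)
    exact ⟨pol Q a Φ.f, sub_eq_zero.1 h0⟩
  simp only [not_forall] at htr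
  obtain ⟨a₀, ha₀, hfix, ha₀0⟩ := htr
  have hbound := ann_bound hQ Φ h2 hq hW5 hX x ha₀ ha₀0 hfix
  by_cases h0 : ∀ u ∈ Φ.dual hQ x, u = 0
  · refine Or.inl (Φ.full_of_W hQ hP fun a ha => Φ.fix_of_dual hQ ha fun u hu => ?_)
    rw [h0 u hu, pzero_right hQ, AddChar.map_zero_eq_one]
  simp only [not_forall] at h0
  obtain ⟨u₀, hu₀, hu₀0⟩ := h0
  by_cases hline : ∀ v ∈ Φ.dual hQ x, ∃ l : F, v = l • u₀
  · refine Or.inr (Or.inr (Or.inl ⟨u₀, hu₀.1, hu₀0, fun a ha hau =>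
      ⟨Φ.pol_e hQ ha, Φ.fix_of_dual hQ ha fun v hv => ?_⟩⟩))
    obtain ⟨l, rfl⟩ := hline v hv
    rw [psmul_right hQ, hau, mul_zero, AddChar.map_zero_eq_one]
  simp only [not_forall, not_exists] at hline
  obtain ⟨v₀, hv₀, hvu₀⟩ := hline
  have hsing : ∀ u ∈ Φ.dual hQ x, Q u = 0 := fun u hu => by
    by_contra hQu
    refine absurd hbound (not_le.2 ?_)
    by_cases hu' : ∀ l : F, u₀ ≠ l • u
    · exact pair_bound hQ Φ h2 hq hW5 hX x hu hQu hu₀ hu'
    · simp only [not_forall, not_not, ne_eq] at hu'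
      obtain ⟨l, hl⟩ := hu'
      have hl0 : l ≠ 0 := fun h => hu₀0 (by rw [hl, h, zero_smul])
      exact pair_bound hQ Φ h2 hq hW5 hX x hu hQu hv₀ fun m hm => hvu₀ (m * l⁻¹) (by
        rw [hm, hl, smul_smul, inv_mul_cancel_right₀ hl0])
  refine Or.inr (Or.inr (Or.inr ?_))
  set M := Submodule.span F (Φ.dual hQ x) with hM
  have hMW : M ≤ Φ.W hQ := Submodule.span_le.2 fun a ha => ha.1
  have horth : ∀ a ∈ Φ.dual hQ x, ∀ b ∈ M, pol Q a b = 0 := fun a ha b hb => by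
    induction hb using Submodule.span_induction with
    | mem c hc => rw [QuadraticMap.polar, hsing _ (Φ.add_mem_dual hQ ha hc), hsing a ha, hsing c hc]; ring
    | zero => exact pzero_right hQ a
    | add c d _ _ ihc ihd => rw [padd_right hQ, ihc, ihd, add_zero]
    | smul l c _ ih => rw [psmul_right hQ, ih, mul_zero]
  have hMts : ∀ y ∈ M, Q y = 0 := fun y hy => by
    induction hy using Submodule.span_induction with
    | mem b hb => exact hsing b hb
    | zero => exact qzero hQ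
    | add b c hb hc ihb ihc =>
      have hbc : pol Q b c = 0 := by
        clear ihb ihc
        induction hb using Submodule.span_induction with
        | mem d hd => exact horth d hd c hc
        | zero => exact pzero_left hQ c
        | add d e _ _ ihd ihe => rw [padd_left hQ, ihd, ihe, add_zero]
        | smul l d _ ih => rw [psmul_left hQ, ih, mul_zero]
      rw [qadd hQ, ihb, ihc, hbc, add_zero, add_zero]
    | smul l b _ ih => rw [qsmul hQ, ih, mul_zero]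
  have hM2 : Module.finrank F M ≤ 2 := by
    have := two_mul_finrank_le hQ (Φ.W_nd hQ) hMW hMts
    omega
  refine ⟨Φ.W hQ ⊓ qperp hQ M, inf_le_left, ?_, fun a ha => ⟨Φ.pol_e hQ ha.1, Φ.fix_of_dual hQ ha.1
    fun u hu => by rw [ha.2 u (Submodule.subset_span hu), AddChar.map_zero_eq_one]⟩, fun c hc hQc a ha => ?_⟩
  · have h3 := finrank_qperp hQ M
    rw [hn] at h3
    have h4 := Submodule.finrank_sup_add_finrank_inf_eq (Φ.W hQ) (qperp hQ M)
    have h5 := Submodule.finrank_le (Φ.W hQ ⊔ qperp hQ M)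
    rw [Module.finrank_fintype_fun_eq_card, hn] at h5
    omega
  · by_cases hcM : c ∈ M
    · exact ha.2 c hcM
    exfalso
    have hM' : ∀ y ∈ M ⊔ Submodule.span F {c}, Q y = 0 := fun y hy => by
      obtain ⟨m, hm, z, hz, rfl⟩ := Submodule.mem_sup.1 hy
      obtain ⟨l, rfl⟩ := Submodule.mem_span_singleton.1 hz
      rw [qadd hQ, hMts m hm, qsmul hQ, hQc, psmul_right hQ, pcomm m c, hc.2 m hm]
      ring
    have hle := two_mul_finrank_le hQ (Φ.W_nd hQ)
      (sup_le hMW ((Submodule.span_singleton_le_iff_mem _ _).2 hc.1)) hM'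
    have hlt : Module.finrank F M < Module.finrank F ↥(M ⊔ Submodule.span F {c}) :=
      Submodule.finrank_lt_finrank_of_lt (lt_of_le_of_ne le_sup_left fun h => hcM (by
        rw [h]; exact Submodule.mem_sup_right (Submodule.mem_span_singleton_self c)))
    have hli : LinearIndependent F ![u₀, v₀] :=
      (LinearIndependent.pair_iff' hu₀0).2 fun l hl => hvu₀ l hl.symm
    have h2M : 2 ≤ Module.finrank F M := by
      have hle' : Submodule.span F (Set.range ![u₀, v₀]) ≤ M := Submodule.span_le.2 (by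
        rintro _ ⟨i, rfl⟩
        fin_cases i
        exacts [Submodule.subset_span hu₀, Submodule.subset_span hv₀])
      have := Submodule.finrank_mono hle'
      rwa [finrank_span_eq_card hli, Fintype.card_fin] at this
    omega

end CfsgLib.PGroup.OrthSeven
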