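import Cfsg.Agent.Lib.PGroup.OrthIndex.Types

/-!
Transitivity in odd characteristic inside a nondegenerate subspace of dimension at least five, and
subspaces of the orthogonal of a pair in dimension seven.
-/

set_option autoImplicit false
set_option linter.unusedSectionVars false

namespace CfsgLib.PGroup.OrthSeven

open scoped Matrix
open Matrix Cfsg.Geo CfsgLib.Perm.Asch CfsgLib.Perm.Trans CfsgLib.Perm.Trans.Quad CfsgLib.PGroup.OrthIndex

variable {ι : Type} [Fintype ι] [DecidableEq ι] {F : Type*} [Field F] [Fintype F]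
variable {Q : (ι → F) → F}

local notation "pol" => QuadraticMap.polar

variable (hQ : IsNondegenerateQuadraticForm Q)
include hQ

/-- The form takes every value on the affine hyperplanes of a nonsingular vector. -/
theorem affine_three (h2 : (2 : F) ≠ 0) {P : Submodule F (ι → F)} (hP : NdOn Q P)
    (hd : 3 ≤ Module.finrank F P) {u : ι → F} (hu : u ∈ P) (hu2 : u = 0 ∨ Q u ≠ 0) (β c : F)
    (hβ : u = 0 → β = 0) : ∃ y ∈ P, pol Q y u = β ∧ Q y = c := by
  rcases eq_or_ne u 0 with rfl | hu0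
  · obtain ⟨y, hy, hQy⟩ := exists_qvalue hQ hP hd c
    exact ⟨y, hy, by rw [pzero_right hQ, hβ rfl], hQy⟩
  have huu : pol Q u u ≠ 0 := by
    rw [pself hQ]
    exact mul_ne_zero h2 (hu2.resolve_left hu0)
  have hnd : NdOn Q (orthIn hQ P u) := by
    intro a ha ha0
    obtain ⟨haP, hau⟩ := (mem_orthIn hQ).1 ha
    obtain ⟨z, hz, hza⟩ := (hP a haP ha0).1
    have h1 : pol Q (z - (pol Q z u / pol Q u u) • u) a = pol Q z a := by
      rw [psub_left hQ, psmul_left hQ, pcomm u a, hau, mul_zero, sub_zero]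
    have hmem : z - (pol Q z u / pol Q u u) • u ∈ orthIn hQ P u :=
      (mem_orthIn hQ).2 ⟨P.sub_mem hz (P.smul_mem _ hu), by
        rw [psub_left hQ, psmul_left hQ, div_mul_cancel₀ _ huu, sub_self]⟩
    exact ⟨⟨_, hmem, by rwa [h1]⟩, ⟨_, hmem, by rwa [pcomm, h1]⟩⟩
  obtain ⟨k, hk, hQk⟩ := exists_value_two hQ hnd (by have := finrank_orthIn hQ P u; omega)
    (c - (β / pol Q u u) ^ 2 * Q u)
  obtain ⟨hkP, hku⟩ := (mem_orthIn hQ).1 hk
  refine ⟨(β / pol Q u u) • u + k, P.add_mem (P.smul_mem _ hu) hkP, ?_, ?_⟩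
  · rw [padd_left hQ, psmul_left hQ, hku, div_mul_cancel₀ _ huu, add_zero]
  · rw [qadd hQ, qsmul hQ, psmul_left hQ, pcomm u k, hku, hQk]
    ring

/-- The Eichler transformations of `P` fixing a vector `u` that is zero or nonsingular are transitive
on the vectors outside the line of `u` with given value and given product with `u`. -/
theorem move_odd (h2 : (2 : F) ≠ 0) (hq : 4 ≤ Fintype.card F) {P : Submodule F (ι → F)} (hP : NdOn Q P)
    (hd : 5 ≤ Module.finrank F P) {u v v' : ι → F} (hu : u ∈ P) (hu2 : u = 0 ∨ Q u ≠ 0) (hv : v ∈ P)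
    (hv' : v' ∈ P) (hvn : ∀ c : F, v ≠ c • u) (hvn' : ∀ c : F, v' ≠ c • u) (hQ' : Q v = Q v')
    (huv : pol Q u v = pol Q u v') : ∃ g ∈ inner hQ P, act g u = u ∧ act g v = v' := by
  have hne : ∀ {w : ι → F}, w ∈ P → (∀ c : F, w ≠ c • u) →
      ∃ x ∈ P, pol Q x u = 0 ∧ (pfl hQ w) x ≠ 0 := fun {w} hw hwn => by
    by_contra hcon
    simp only [not_exists, not_and, not_not, ne_eq] at hcon
    obtain ⟨c, hc⟩ := mem_span_of_orth hQ hP hu hw hcon
    exact hwn c hc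
  obtain ⟨t, t', htP, ht'P, hQt, hQt', htt, htu, htu'⟩ := exists_pair_orth hQ hP hd hu
  obtain ⟨s₁, hs₁, hQs₁, hs₁u, hvs₁, hs₁t⟩ := exists_two_nonzero hQ hq hP hd hu _ (pfl hQ t)
    (hne hv hvn) ⟨t', ht'P, htu', by
      show pol Q t' t ≠ 0
      rw [pcomm, htt]; exact one_ne_zero⟩
  have hs₁n : ∃ x ∈ P, pol Q x u = 0 ∧ (pfl hQ s₁) x ≠ 0 := ⟨t, htP, htu, by
    show pol Q t s₁ ≠ 0
    rw [pcomm]; exact hs₁t⟩
  obtain ⟨s₂, hs₂, hQs₂, hs₂u, hvs₂, hss⟩ := exists_two_nonzero hQ hq hP hd hu _ _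
    (hne hv' hvn') hs₁n
  change pol Q s₁ v ≠ 0 at hvs₁
  change pol Q s₂ v' ≠ 0 at hvs₂
  change pol Q s₂ s₁ ≠ 0 at hss
  set f := (pol Q s₂ s₁)⁻¹ • s₂ with hf
  have hQf : Q f = 0 := by rw [hf, qsmul hQ, hQs₂, mul_zero]
  have hfP : f ∈ P := P.smul_mem _ hs₂
  have hs₁f : pol Q s₁ f = 1 := by rw [hf, psmul_right hQ, pcomm s₁ s₂, inv_mul_cancel₀ hss]
  have hfu : pol Q f u = 0 := by rw [hf, psmul_left hQ, hs₂u, mul_zero]
  have hP0nd := pair_nd hQ hs₁ hfP hQs₁ hQf hs₁f hP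
  have hP0d := pair_finrank hQ hs₁ hfP hQs₁ hQf hs₁f
  have hu0 : u ∈ pairPerp hQ P s₁ f := (mem_pairPerp hQ).2
    ⟨hu, by rw [pcomm, hs₁u], by rw [pcomm, hfu]⟩
  obtain ⟨y, hy, hyu, hQy⟩ := affine_three hQ h2 hP0nd (by omega) hu0 hu2 (pol Q v u)
    (Q v - (pol Q v' s₂ / pol Q s₂ s₁) * pol Q v s₁) (fun h => by rw [h, pzero_right hQ])
  obtain ⟨hyP, hys, hyf⟩ := (mem_pairPerp hQ).1 hy
  set v₁ := (pol Q v' s₂ / pol Q s₂ s₁) • s₁ + pol Q v s₁ • f + y with hv₁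
  have hv₁P : v₁ ∈ P := P.add_mem (P.add_mem (P.smul_mem _ hs₁) (P.smul_mem _ hfP)) hyP
  have e1 : pol Q v₁ s₁ = pol Q v s₁ := by
    rw [hv₁, padd_left hQ, padd_left hQ, psmul_left hQ, psmul_left hQ, pol_self_singular hQ hQs₁,
      pcomm f s₁, hs₁f, hys]
    ring
  have hys₂ : pol Q y s₂ = 0 := by
    rw [show s₂ = pol Q s₂ s₁ • f by rw [hf, smul_smul, mul_inv_cancel₀ hss, one_smul], psmul_right hQ,
      hyf, mul_zero]
  have e2 : pol Q v₁ s₂ = pol Q v' s₂ := by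
    rw [hv₁, padd_left hQ, padd_left hQ, psmul_left hQ, psmul_left hQ, hys₂, pcomm s₁ s₂,
      div_mul_cancel₀ _ hss, hf, psmul_left hQ, pol_self_singular hQ hQs₂]
    ring
  have e3 : Q v₁ = Q v := by
    rw [hv₁, qadd hQ, qadd hQ, qsmul hQ, qsmul hQ, hQs₁, hQf, padd_left hQ, psmul_left hQ, psmul_left hQ,
      psmul_left hQ, psmul_right hQ, hs₁f, hQy, pcomm s₁ y, pcomm f y, hys, hyf]
    ring
  have e4 : pol Q u v₁ = pol Q u v := by
    rw [hv₁, padd_right hQ, padd_right hQ, psmul_right hQ, psmul_right hQ, pcomm u s₁, hs₁u, pcomm u f,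
      hfu, pcomm u y, hyu, pcomm v u]
    ring
  obtain ⟨g₁, hg₁, hg₁u, hg₁v⟩ := step hQ (u := u) hv hv₁P hs₁ hQs₁ e3.symm e4.symm hs₁u e1.symm
    (by rwa [pcomm])
  obtain ⟨g₂, hg₂, hg₂u, hg₂v⟩ := step hQ (u := u) hv₁P hv' hs₂ hQs₂ (e3.trans hQ') (e4.trans huv) hs₂u
    e2 (by rw [e2, pcomm]; exact hvs₂)
  exact ⟨g₂ * g₁, mul_mem hg₂ hg₁, by rw [act_mul, hg₁u, hg₂u], by rw [act_mul, hg₁v, hg₂v]⟩

/-- A proper subspace has a non-zero normal. -/
theorem exists_normal {L W : Submodule F (ι → F)} (h : Module.finrank F L < Module.finrank F W) :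
    ∃ u ∈ W, u ≠ 0 ∧ ∀ a ∈ L, pol Q a u = 0 := by
  let T : W →ₗ[F] Module.Dual F L :=
    { toFun := fun u => (pfl hQ (u : ι → F)).comp L.subtype
      map_add' := fun a b => LinearMap.ext fun x => padd_right hQ (x : ι → F) a b
      map_smul' := fun c a => LinearMap.ext fun x => psmul_right hQ c (x : ι → F) a }
  have h1 := LinearMap.finrank_range_add_finrank_ker T
  have h2 := Submodule.finrank_le (LinearMap.range T)
  have h3 : Module.finrank F (Module.Dual F L) = Module.finrank F L := Subspace.dual_finrank_eq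
  obtain ⟨u, hu, hu0⟩ := Submodule.exists_mem_ne_zero_of_ne_bot (p := LinearMap.ker T) (fun hb => by
    rw [hb, finrank_bot] at h1
    omega)
  exact ⟨u.1, u.2, fun h0 => hu0 (Subtype.ext h0), fun a ha => LinearMap.congr_fun hu ⟨a, ha⟩⟩

/-- A subspace of dimension at least three of a five-dimensional one has a nonsingular vector. -/
theorem exists_nonsingular_mem {W L : Submodule F (ι → F)} (hW : NdOn Q W) (hW5 : Module.finrank F W = 5)
    (hLW : L ≤ W) (hL : 3 ≤ Module.finrank F L) : ∃ k ∈ L, Q k ≠ 0 := by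
  by_contra hcon
  simp only [not_exists, not_and, not_not, ne_eq] at hcon
  have := two_mul_finrank_le hQ hW hLW hcon
  omega

end CfsgLib.PGroup.OrthSeven
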