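import Cfsg.Agent.Lib.PGroup.OrthIndex.NoTriv
import Cfsg.Agent.Lib.PGroup.OrthSeven.Dual

/-!
No singular vector has a trivial star at a point of an action on few points, in dimension seven.
-/

set_option autoImplicit false
set_option linter.unusedSectionVars false

namespace CfsgLib.PGroup.OrthSeven

open scoped Matrix
open Matrix Cfsg.Geo CfsgLib.Perm.Asch CfsgLib.Perm.Trans CfsgLib.Perm.Trans.Quad CfsgLib.PGroup.OrthIndex

variable {ι : Type} [Fintype ι] [DecidableEq ι] {F : Type*} [Field F] [Fintype F]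
variable {Q : (ι → F) → F}

local notation "pol" => QuadraticMap.polar

variable (hQ : IsNondegenerateQuadraticForm Q)
include hQ
variable {X : Type*} [MulAction ↥(eGroup Q) X] (Φ : Frame Q)

/-- Stars in four dimensions of `W` give a hyperplane of stars. -/
theorem hyp_of_sub (hW5 : Module.finrank F (Φ.W hQ) = 5) {L : Submodule F (ι → F)} {x : X}
    (hLW : L ≤ Φ.W hQ) (hL : ∀ a ∈ L, Star hQ x Φ.e a) (h4 : 4 ≤ Module.finrank F L) : HypW hQ Φ x := by
  by_cases htop : L = Φ.W hQ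
  · obtain ⟨u, hu, hu0⟩ := Submodule.exists_mem_ne_zero_of_ne_bot (p := Φ.W hQ) (fun h => by
      rw [h, finrank_bot] at hW5; omega)
    exact ⟨u, hu, hu0, fun a ha _ => hL a (htop.symm ▸ ha)⟩
  have hlt := Submodule.finrank_lt_finrank_of_lt (lt_of_le_of_ne hLW htop)
  obtain ⟨u, hu, hu0, horth⟩ := exists_normal hQ hlt
  have hlt' : Module.finrank F (orthIn hQ (Φ.W hQ) u) < Module.finrank F (Φ.W hQ) := by
    refine Submodule.finrank_lt_finrank_of_lt (lt_of_le_of_ne inf_le_left fun h => ?_)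
    obtain ⟨y, hy, hyu⟩ := ((Φ.W_nd hQ) u hu hu0).1
    exact hyu ((mem_orthIn hQ).1 (h.symm ▸ hy : y ∈ orthIn hQ (Φ.W hQ) u)).2
  have heq : L = orthIn hQ (Φ.W hQ) u :=
    Submodule.eq_of_le_of_finrank_le (fun a ha => (mem_orthIn hQ).2 ⟨hLW ha, horth a ha⟩) (by omega)
  exact ⟨u, hu, hu0, fun a ha hau => hL a (heq.symm ▸ (mem_orthIn hQ).2 ⟨ha, hau⟩)⟩

/-- With a trivial star normalised, the second vector of the pair is full. -/
theorem triv_full (h2 : (2 : F) ≠ 0) (hq : 5 ≤ Fintype.card F) (hn : Fintype.card ι = 7) (hP : Φ.P = ⊤) [Finite X]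
    (hX : Nat.card X * (Fintype.card F - 1) < Fintype.card F ^ 6)
    {x : X} (h : Triv hQ x Φ.e) (hfix : ∀ (k : ↥(eGroup Q)) (c : F), c ≠ 0 → act k Φ.e = c • Φ.e →
      act k Φ.f = c⁻¹ • Φ.f → k • x = x) : Full hQ x Φ.f := by
  have hW := Φ.W_finrank hQ
  rw [hP, finrank_top, Module.finrank_fintype_fun_eq_card] at hW
  have hin : ∀ k ∈ inner hQ (Φ.W hQ), k • x = x := fun k hk => hfix k 1 one_ne_zero
    (by rw [one_smul]; exact inner_fix hQ hk fun y hy => Φ.pol_e hQ hy)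
    (by rw [inv_one, one_smul]; exact inner_fix hQ hk fun y hy => by rw [pcomm]; exact Φ.pol_f hQ hy)
  have key : ∀ s ∈ Φ.W hQ, Q s = 0 → Star hQ x Φ.f s := fun s hs hQs => by
    rcases eq_or_ne s 0 with rfl | hs0
    · exact Star.zero Φ.hQf x
    have hse : pol Q s Φ.e = 0 := Φ.pol_e' hQ hs
    have hnoe : ∀ k : F, k ≠ 0 → ¬ Star hQ x s (k • Φ.e) := fun k hk hstar => by
      obtain ⟨j, hj⟩ := h _ (hstar.swap_smul hQ hQs Φ.hQe)
      exact Φ.not_line hQ ((Φ.W hQ).smul_mem k hs) (smul_ne_zero hk hs0) j hj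
    obtain ⟨s', hs', hQs', hss⟩ := exists_partner hQ (Φ.W_nd hQ) hs hs0 hQs
    set W₀ := pairPerp hQ (Φ.W hQ) s s' with hW₀
    have hW₀d := pair_finrank_eq hQ hs hs' hQs hQs' hss
    rw [← hW₀] at hW₀d
    have hW₀star : ∀ w ∈ W₀, Star hQ x s w := fun w hw => by
      obtain ⟨hwW, hws, -⟩ := (mem_pairPerp hQ).1 hw
      exact ⟨by rw [pcomm, hws], hin _ (el_mem_inner hQ hs hwW hQs (by rw [pcomm, hws]))⟩
    set ΦS := topFrame hQ (by omega) hQs hQs' hss with hΦS
    have hW₀S : W₀ ≤ ΦS.W hQ := fun w hw => by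
      obtain ⟨-, hws, hws'⟩ := (mem_pairPerp hQ).1 hw
      exact (mem_pairPerp hQ).2 ⟨Submodule.mem_top, hws, hws'⟩
    have hES : Φ.e ∈ ΦS.W hQ := (mem_pairPerp hQ).2
      ⟨Submodule.mem_top, by show pol Q Φ.e s = 0; rw [pcomm]; exact hse, Φ.pol_e hQ hs'⟩
    have hFS : Φ.f ∈ ΦS.W hQ := (mem_pairPerp hQ).2
      ⟨Submodule.mem_top, by show pol Q Φ.f s = 0; rw [pcomm]; exact Φ.pol_f hQ hs,
        by show pol Q Φ.f s' = 0; rw [pcomm]; exact Φ.pol_f hQ hs'⟩
    obtain ⟨u, -, -, hu⟩ : HypW hQ ΦS x := by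
      rcases classify hQ ΦS h2 hq rfl hn hX x with hc | hc | hc | ⟨L, hL, hL3, hLs, hLrad⟩
      · exact (hnoe 1 one_ne_zero (by rw [one_smul]; exact hc.star hse)).elim
      · obtain ⟨w, hw, hw0, hQw⟩ := exists_singular_mem hQ W₀ (by omega)
        obtain ⟨k, hk⟩ := hc _ (hW₀star w hw)
        obtain ⟨-, -, hws'⟩ := (mem_pairPerp hQ).1 hw
        rw [hk, psmul_left hQ, show pol Q ΦS.e s' = 1 from hss, mul_one] at hws'
        rw [hws', zero_smul] at hk
        exact (hw0 hk).elim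
      · exact hc
      · have hW₀nd : NdOn Q W₀ := pair_nd hQ hs hs' hQs hQs' hss (Φ.W_nd hQ)
        refine hyp_of_sub hQ ΦS (W_five hQ ΦS rfl hn) (L := L ⊔ W₀) (sup_le hL hW₀S) ?_ ?_
        · intro a ha
          obtain ⟨l, hl, w, hw, rfl⟩ := Submodule.mem_sup.1 ha
          exact (hLs l hl).add ΦS.hQe (hW₀star w hw)
        · have hlt : Module.finrank F L < Module.finrank F ↥(L ⊔ W₀) :=
            Submodule.finrank_lt_finrank_of_lt (lt_of_le_of_ne le_sup_left fun heq => by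
              obtain ⟨w, hw, hw0, hQw⟩ := exists_singular_mem hQ W₀ (by omega)
              obtain ⟨w', hw', -, hww⟩ := exists_partner hQ hW₀nd hw hw0 hQw
              have hsub : W₀ ≤ L := le_sup_right.trans heq.ge
              have h0 := hLrad w (hsub hw) hQw w' (hsub hw')
              rw [pcomm, hww] at h0
              exact one_ne_zero h0)
          omega
    have hstar : ∀ a b : F, a * pol Q Φ.e u + b * pol Q Φ.f u = 0 → Star hQ x s (a • Φ.e + b • Φ.f) :=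
      fun a b hab => by
        have hp : pol Q s (a • Φ.e + b • Φ.f) = 0 := by
          rw [padd_right hQ, psmul_right hQ, psmul_right hQ, hse, Φ.pol_f hQ hs]; ring
        exact hu _ ((ΦS.W hQ).add_mem ((ΦS.W hQ).smul_mem a hES) ((ΦS.W hQ).smul_mem b hFS))
          (by rw [padd_left hQ, psmul_left hQ, psmul_left hQ, hab])
    rcases eq_or_ne (pol Q Φ.e u) 0 with he0 | he0
    · exact (hnoe 1 one_ne_zero (by
        have := hstar 1 0 (by rw [he0]; ring)
        rwa [zero_smul, add_zero] at this)).elim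
    rcases eq_or_ne (pol Q Φ.f u) 0 with hf0 | hf0
    · have := hstar 0 1 (by rw [hf0]; ring)
      rw [zero_smul, zero_add] at this
      have h1 := this.swap_smul hQ hQs Φ.hQf
      rwa [one_smul] at h1
    exfalso
    obtain ⟨c, hc, hc2⟩ := exists_sq_ne_one (F := F) (by omega)
    obtain ⟨g, -, hge, hgf⟩ := exists_scale hQ (by omega) Φ.nd Φ.six Φ.he Φ.hf Φ.hQe Φ.hQf Φ.hef hc
    have hgW : act g s ∈ Φ.W hQ := (mem_pairPerp hQ).2 ⟨by rw [hP]; exact Submodule.mem_top, by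
      have h2 := pol_act g s Φ.e
      rw [hge, psmul_right hQ, hse, mul_eq_zero] at h2
      exact h2.resolve_left hc, by
      have h2 := pol_act g s Φ.f
      rw [hgf, psmul_right hQ, Φ.pol_f hQ hs, mul_eq_zero] at h2
      exact h2.resolve_left (inv_ne_zero hc)⟩
    obtain ⟨k, hk, -, hks⟩ := move_odd hQ h2 (by omega) (Φ.W_nd hQ) (by omega) (Φ.W hQ).zero_mem (Or.inl rfl) hgW hs
      (fun j => by rw [smul_zero]; exact fun h0 => hs0 (act_injective g (by rw [h0, act_zero])))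
      (fun j => by rwa [smul_zero]) (by rw [Q_act (Q := Q)]) (by rw [pzero_left hQ, pzero_left hQ])
    have hkgx : (k * g) • x = x := by rw [mul_smul, hfix g c hc hge hgf, hin k hk]
    have h1 := (hstar (pol Q Φ.f u) (-pol Q Φ.e u) (by ring)).map_of_fix hkgx hQs
    rw [act_mul, hks, act_add, act_smul, act_smul, act_mul, act_mul, hge, hgf, act_smul, act_smul,
      inner_fix hQ hk (fun y hy => Φ.pol_e hQ hy),
      inner_fix hQ hk (fun y hy => by rw [pcomm]; exact Φ.pol_f hQ hy)] at h1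
    have h2 := h1.sub hQs (hstar (pol Q Φ.f u * c⁻¹) (-pol Q Φ.e u * c⁻¹) (by ring))
    rw [show pol Q Φ.f u • c • Φ.e + (-pol Q Φ.e u) • c⁻¹ • Φ.f -
        ((pol Q Φ.f u * c⁻¹) • Φ.e + (-pol Q Φ.e u * c⁻¹) • Φ.f) = (pol Q Φ.f u * (c - c⁻¹)) • Φ.e by
      module] at h2
    refine hnoe _ (mul_ne_zero hf0 fun h0 => hc2 ?_) h2
    rw [sub_eq_zero] at h0
    rw [sq]
    nth_rewrite 2 [h0]
    exact mul_inv_cancel₀ hc
  intro a ha
  have ha' := Φ.rest_mem hQ hP a
  set y := a - pol Q a Φ.f • Φ.e - pol Q a Φ.e • Φ.f with hy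
  have hWall : ∀ w ∈ Φ.W hQ, Star hQ x Φ.f w := mem_of_singular hQ (Φ.W_nd hQ) (by omega)
    (S := {w | Star hQ x Φ.f w}) (fun p hp r hr => Star.add Φ.hQf hp hr) key
  have haf : pol Q a Φ.f = 0 := by rw [pcomm]; exact ha
  have hdec : a = pol Q a Φ.e • Φ.f + y := by rw [hy, haf]; module
  rw [hdec]
  exact ((Star.self Φ.hQf x _).add Φ.hQf (hWall y ha')).2


omit Φ in
/-- No star is trivial. -/
theorem not_triv (h2 : (2 : F) ≠ 0) (hq : 5 ≤ Fintype.card F) (hn : Fintype.card ι = 7) [Finite X]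
    (hX : Nat.card X * (Fintype.card F - 1) < Fintype.card F ^ 6)
    (hsmall : Nat.card X * (Fintype.card F - 1) < (sphere Q (⊤ : Submodule F (ι → F)) 0).ncard - 1)
    (x : X) {z : ι → F} (hz : Q z = 0) (hz0 : z ≠ 0) : ¬ Triv hQ x z := by
  classical
  intro htr
  obtain ⟨Φ, hP, rfl⟩ := exists_frame hQ (by omega) hz hz0
  obtain ⟨g₀, htriv, hfix⟩ := Φ.triv_normal hQ (by omega) hP hsmall htr
  have hfull := triv_full hQ Φ h2 hq hn hP hX htriv hfix
  set x₁ := g₀ • x with hx₁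
  have hW := Φ.W_finrank hQ
  rw [hP, finrank_top, Module.finrank_fintype_fun_eq_card] at hW
  have hnotFull : ∀ w ∈ Φ.W hQ, w ≠ 0 → Q w = 0 → ¬ Full hQ x₁ w := fun w hw hw0 hQw hFw => by
    have h1 := (hFw.star (Φ.pol_e' hQ hw)).swap hQw Φ.hQe
    obtain ⟨j, hj⟩ := htriv w h1
    exact Φ.not_line hQ hw hw0 j hj
  have hnotFe : ¬ Full hQ x₁ Φ.e := fun hFe => by
    obtain ⟨w, hw, hw0, -⟩ := exists_singular_mem hQ (Φ.W hQ) (by omega)
    obtain ⟨j, hj⟩ := htriv w (hFe.star (Φ.pol_e hQ hw))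
    exact Φ.not_line hQ hw hw0 j hj
  -- the stabiliser fixes the line of `f`
  have hline : ∀ g : ↥(eGroup Q), g • x₁ = x₁ → ∃ k : F, act g Φ.f = k • Φ.f := by
    intro g hg
    have hF' := hfull.map_of_fix hg Φ.hQf
    set f' := act g Φ.f with hf'
    have hQf' : Q f' = 0 := by rw [hf', Q_act (Q := Q), Φ.hQf]
    set α := pol Q f' Φ.f with hα
    set β := pol Q f' Φ.e with hβ
    set w := f' - α • Φ.e - β • Φ.f with hw
    have hwW : w ∈ Φ.W hQ := Φ.rest_mem hQ hP f'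
    have hdec : f' = α • Φ.e + β • Φ.f + w := by rw [hw]; abel
    have hfix' : ∀ a, pol Q Φ.f a = 0 → ∀ v, Q v = 0 → act (el hQ Φ.f a) v = f' → Full hQ x₁ v :=
      fun a ha v hv hav => by
        have h1 := hF'.map_of_fix (g := (el hQ Φ.f a)⁻¹) (inv_smul_eq_iff.2 (hfull a ha).symm) hQf'
        rwa [← hav, act_inv_act] at h1
    have hqsum : α * β + Q w = 0 := by
      rw [← hQf']
      conv_rhs => rw [hdec]
      rw [qadd hQ, qadd hQ, qsmul hQ, qsmul hQ, Φ.hQe, Φ.hQf, psmul_left hQ, psmul_right hQ, Φ.hef,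
        padd_left hQ, psmul_left hQ, psmul_left hQ, Φ.pol_e hQ hwW, pcomm Φ.f w, Φ.pol_f hQ hwW]
      ring
    by_cases hα0 : α = 0
    · by_cases hw0 : w = 0
      · refine ⟨β, ?_⟩
        conv_lhs => rw [hdec, hα0, hw0]
        simp
      exfalso
      have hQw : Q w = 0 := by rw [hα0, zero_mul, zero_add] at hqsum; exact hqsum
      obtain ⟨w', hw', hww'⟩ := ((Φ.W_nd hQ) w hwW hw0).1
      set a := (-β / pol Q w' w) • w' with ha
      have haW : a ∈ Φ.W hQ := (Φ.W hQ).smul_mem _ hw'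
      have hfa : pol Q Φ.f a = 0 := by rw [pcomm]; exact Φ.pol_f hQ haW
      refine hnotFull w hwW hw0 hQw (hfix' a hfa w hQw ?_)
      rw [act_el hQ Φ.hQf hfa, Φ.pol_f hQ hwW, hdec, hα0]
      have : pol Q w a = -β := by rw [pcomm, ha, psmul_left hQ, div_mul_cancel₀ _ hww']
      rw [this]
      module
    · exfalso
      set a := α⁻¹ • w with ha
      have hfa : pol Q Φ.f a = 0 := by rw [ha, psmul_right hQ, pcomm, Φ.pol_f hQ hwW, mul_zero]
      refine hnotFe (Full.of_smul Φ.hQe hα0 (hfix' a hfa (α • Φ.e) (by rw [qsmul hQ, Φ.hQe, mul_zero]) ?_))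
      rw [act_el hQ Φ.hQf hfa, hdec, psmul_left hQ, psmul_left hQ, Φ.hef, Φ.pol_e hQ ((Φ.W hQ).smul_mem _ hwW),
        ha, qsmul hQ, mul_one, mul_zero, smul_smul, mul_inv_cancel₀ hα0, one_smul, zero_smul, sub_zero]
      have hβ' : α⁻¹ ^ 2 * Q w * α = -β := by
        rw [show Q w = -(α * β) by linear_combination hqsum]
        field_simp
      rw [hβ']
      module
  -- the points are at least as many as the lines
  haveI : Fintype X := Fintype.ofFinite X
  have hmove : ∀ v : ↥(sphere Q (⊤ : Submodule F (ι → F)) 0 \ {0}), ∃ g : ↥(eGroup Q), act g Φ.f = v.1 := by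
    rintro ⟨v, ⟨-, hQv⟩, hv0⟩
    obtain ⟨g, hg, hgv⟩ := exists_move hQ (by omega) (fun h0 => one_ne_zero (Φ.hef.symm.trans
      (by rw [h0, pzero_right hQ]))) hv0 Φ.hQf hQv
    exact ⟨⟨g, hg⟩, hgv⟩
  choose gv hgv using hmove
  let rep : X → ↥(eGroup Q) := fun y => if h : ∃ g : ↥(eGroup Q), g • x₁ = y then h.choose else 1
  have hrep : ∀ v, ∃ k : Fˣ, v.1 = (k : F) • act (rep (gv v • x₁)) Φ.f := fun v => by
    have h1 : rep (gv v • x₁) • x₁ = gv v • x₁ := by
      have hex : ∃ g : ↥(eGroup Q), g • x₁ = gv v • x₁ := ⟨_, rfl⟩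
      simp only [rep, dif_pos hex]
      exact hex.choose_spec
    obtain ⟨k, hk⟩ := hline ((rep (gv v • x₁))⁻¹ * gv v) (by rw [mul_smul, inv_smul_eq_iff, h1])
    have h2 : v.1 = k • act (rep (gv v • x₁)) Φ.f := by
      rw [← act_smul, ← hk, act_mul, act_act_inv, hgv]
    have hk0 : k ≠ 0 := fun h0 => v.2.2 (by
      rw [h0, zero_smul] at h2
      exact h2)
    exact ⟨Units.mk0 k hk0, h2⟩
  choose kv hkv using hrep
  have h1 := Nat.card_le_card_of_injective (fun v => (gv v • x₁, kv v)) fun v v' h => by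
    obtain ⟨hy, hk⟩ := Prod.mk.inj h
    exact Subtype.ext (by rw [hkv v, hkv v', hy, hk])
  rw [Nat.card_coe_set_eq, Nat.card_prod, Nat.card_units, Nat.card_eq_fintype_card (α := F),
    Set.ncard_sdiff_singleton_of_mem
      (show (0 : ι → F) ∈ sphere Q (⊤ : Submodule F (ι → F)) 0 from ⟨Submodule.mem_top, qzero hQ⟩)] at h1
  omega

end CfsgLib.PGroup.OrthSeven
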